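import Groth.Agent.KFlat.Flat

/-!
Bounded above complexes of flat objects are K-flat.
-/

set_option maxHeartbeats 800000
set_option linter.unusedVariables false

universe v u

open CategoryTheory CategoryTheory.Limits HomologicalComplex

namespace Groth.Agent.KFlat

variable {C : Type u} [Category.{v} C] [Abelian C] (K : CochainComplex C ℤ)

namespace Stupid

/-- Zero in degrees `≥ m`, the identity below. -/
noncomputable def cut (m n : ℤ) : K.X n ⟶ K.X n := if m ≤ n then 0 else 𝟙 _

lemma cut_of_le {m n : ℤ} (h : m ≤ n) : cut K m n = 0 := by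
  unfold cut
  exact if_pos h

lemma cut_of_lt {m n : ℤ} (h : n < m) : cut K m n = 𝟙 _ := by
  unfold cut
  exact if_neg (by omega)

lemma isZero_kernel {m n : ℤ} (h : n < m) : IsZero (kernel (cut K m n)) := by
  have h1 : kernel.ι (cut K m n) = 0 :=
    ((Category.comp_id _).symm.trans (congrArg (fun t => kernel.ι (cut K m n) ≫ t) (cut_of_lt K h).symm)).trans
      (kernel.condition _)
  rw [IsZero.iff_id_eq_zero]
  ext
  rw [Category.id_comp, zero_comp]
  exact h1

/-- The subcomplex of degrees `≥ m`. -/
noncomputable def trunc (m : ℤ) : CochainComplex C ℤ where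
  X n := kernel (cut K m n)
  d i j := kernel.lift _ (kernel.ι (cut K m i) ≫ K.d i j) (by
    by_cases hj : m ≤ j
    · rw [cut_of_le K hj, comp_zero]
    · by_cases hr : (ComplexShape.up ℤ).Rel i j
      · have h1 : i + 1 = j := hr
        rw [(isZero_kernel K (show i < m by omega)).eq_of_src (kernel.ι _) 0]
        simp
      · simp [K.shape _ _ hr])
  shape i j h := by ext; simp [K.shape _ _ h]
  d_comp_d' i j k _ _ := by ext; simp

/-- The inclusion. -/
noncomputable def incl (m : ℤ) : trunc K m ⟶ K where
  f n := kernel.ι (cut K m n)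
  comm' i j _ := (kernel.lift_ι _ _ _).symm

lemma isZero_X {m n : ℤ} (h : n < m) : IsZero ((trunc K m).X n) := isZero_kernel K h

instance mono_incl (m n : ℤ) : Mono ((incl K m).f n) := inferInstanceAs (Mono (kernel.ι (cut K m n)))

lemma isIso_ι {m n : ℤ} (h : m ≤ n) : IsIso ((incl K m).f n) :=
  show IsIso (kernel.ι (cut K m n)) from
    ⟨kernel.lift _ (𝟙 _) (by simp [cut, h]), by ext; simp, by simp⟩

/-- The inclusions between the subcomplexes. -/
noncomputable def step {m m' : ℤ} (h : m' ≤ m) : trunc K m ⟶ trunc K m' where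
  f n := kernel.lift _ ((incl K m).f n) (by
    by_cases hn : m' ≤ n
    · rw [cut_of_le K hn, comp_zero]
    · rw [(isZero_X K (show n < m by omega)).eq_of_src ((incl K m).f n) 0, zero_comp])
  comm' i j _ := by
    refine (cancel_mono ((incl K m').f j)).1 ?_
    refine (Category.assoc _ _ _).trans (((congrArg (fun t => _ ≫ t) ((incl K m').comm i j).symm).trans ?_).trans
      (Category.assoc _ _ _).symm)
    refine ((Category.assoc _ _ _).symm.trans (congrArg (fun t => t ≫ K.d i j) (kernel.lift_ι _ _ _))).trans
      (((incl K m).comm i j).trans (congrArg (fun t => (trunc K m).d i j ≫ t) (kernel.lift_ι _ _ _).symm))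

@[reassoc (attr := simp)]
lemma step_incl {m m' : ℤ} (h : m' ≤ m) : step K h ≫ incl K m' = incl K m := by
  ext n
  exact kernel.lift_ι _ _ _

@[reassoc (attr := simp)]
lemma step_incl_f {m m' : ℤ} (h : m' ≤ m) (n : ℤ) : (step K h).f n ≫ (incl K m').f n = (incl K m).f n :=
  kernel.lift_ι _ _ _

lemma step_refl (m : ℤ) : step K (le_refl m) = 𝟙 _ := by
  ext n
  rw [← cancel_mono ((incl K m).f n)]
  simp

lemma step_trans {m m' m'' : ℤ} (h : m' ≤ m) (h' : m'' ≤ m') : step K h ≫ step K h' = step K (h'.trans h) := by
  ext n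
  rw [← cancel_mono ((incl K m'').f n)]
  simp

/-- The exhausting sequence of subcomplexes. -/
noncomputable def diag (b : ℤ) : ℕ ⥤ CochainComplex C ℤ where
  obj k := trunc K (b - k)
  map {j k} h := step K (by have := leOfHom h; omega)
  map_id k := step_refl K _
  map_comp f g := (step_trans K _ _).symm

/-- The exhausting cocone. -/
noncomputable def cocone (b : ℤ) : Cocone (diag K b) where
  pt := K
  ι := { app := fun k => incl K _, naturality := fun j k h => by simp [diag] }

/-- A complex is the union of its brutal truncations. -/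
noncomputable def isColimit (b : ℤ) : IsColimit (cocone K b) := isColimitOfEval _ _ fun n => by
  let k₀ : ℕ := (b - n).toNat
  have hk : ∀ k : ℕ, k₀ ≤ k → IsIso (((cocone K b).ι.app k).f n) := fun k h => isIso_ι K (by omega)
  let e : ∀ k : ℕ, k₀ ≤ k → (((diag K b).obj k).X n ≅ K.X n) := fun k h =>
    @asIso _ _ _ _ (((cocone K b).ι.app k).f n) (hk k h)
  refine { desc := fun s => (e k₀ le_rfl).inv ≫ s.ι.app k₀
           fac := fun s j => ?_
           uniq := fun s m hm => ?_ }
  · let k := max j k₀
    let a := (diag K b).map (homOfLE (le_max_left j k₀))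
    let a₀ := (diag K b).map (homOfLE (le_max_right j k₀))
    have e3 : a.f n ≫ (e k (le_max_right _ _)).hom = ((cocone K b).ι.app j).f n := step_incl_f K (by omega) n
    have e4 : a₀.f n ≫ (e k (le_max_right _ _)).hom = (e k₀ le_rfl).hom := step_incl_f K (by omega) n
    have e5 : (e k₀ le_rfl).inv ≫ a₀.f n = (e k (le_max_right _ _)).inv :=
      ((e k₀ le_rfl).inv_comp_eq).2 ((Iso.eq_comp_inv (e k (le_max_right _ _))).2 e4)
    have e1 : a.f n ≫ s.ι.app k = s.ι.app j := s.w (homOfLE (le_max_left j k₀))
    have e2 : a₀.f n ≫ s.ι.app k = s.ι.app k₀ := s.w (homOfLE (le_max_right j k₀))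
    have h6 : (e k₀ le_rfl).inv ≫ s.ι.app k₀ = (e k (le_max_right _ _)).inv ≫ s.ι.app k :=
      (congrArg (fun t => (e k₀ le_rfl).inv ≫ t) e2.symm).trans
        ((Category.assoc _ _ _).symm.trans (congrArg (fun t => t ≫ s.ι.app k) e5))
    exact (congrArg₂ (fun t t' => t ≫ t') e3.symm h6).trans
      ((Category.assoc _ _ _).trans ((congrArg (fun t => a.f n ≫ t) (Iso.hom_inv_id_assoc _ _)).trans e1))
  · exact (Iso.eq_inv_comp (e k₀ le_rfl)).2 (hm k₀)

end Stupid

/-- A complex concentrated in one degree is a single complex. -/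
noncomputable def isoSingle (a : ℤ) (h : ∀ n, n ≠ a → IsZero (K.X n)) :
    K ≅ (CochainComplex.singleFunctor C a).obj (K.X a) :=
  Hom.isoOfComponents
    (fun n => if hn : n = a then K.XIsoOfEq hn ≪≫ (singleObjXIsoOfEq (ComplexShape.up ℤ) a (K.X a) n hn).symm
      else (h n hn).iso (isZero_single_obj_X (ComplexShape.up ℤ) a (K.X a) n hn))
    (fun i j hij => by
      simp only [ComplexShape.up_Rel] at hij
      by_cases hi : i = a
      · exact (isZero_single_obj_X (ComplexShape.up ℤ) a (K.X a) j (by omega)).eq_of_tgt _ _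
      · exact (h i hi).eq_of_src _ _)

variable (F : C ⥤ C ⥤ C) [F.Additive] [∀ X, (F.obj X).Additive]
  [∀ K L : CochainComplex C ℤ, HasMapBifunctor K L F (ComplexShape.up ℤ)]
  [HasColimitsOfShape ℕ C] [HasExactColimitsOfShape ℕ C] [∀ X, PreservesColimitsOfShape ℕ (F.obj X)]

open Stupid in
/-- Bounded above complexes of flat objects are K-flat. -/
lemma flatR_of_boundedAbove (b : ℤ) (hb : ∀ n, b < n → IsZero (K.X n)) (hK : TermFlat F K) : FlatR F K := by
  have key : ∀ k : ℕ, FlatR F (trunc K (b + 1 - k)) := by
    intro k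
    induction k with
    | zero =>
      refine FlatR.of_isZero F ((IsZero.iff_id_eq_zero _).2 ?_)
      ext n : 1
      refine IsZero.eq_of_src ?_ _ _
      by_cases hn : b + 1 - (0 : ℕ) ≤ n
      · have := isIso_ι K hn
        exact (hb n (by omega)).of_iso (asIso ((incl K _).f n))
      · exact isZero_X K (by omega)
    | succ k ih =>
      let m : ℤ := b + 1 - k
      let m' : ℤ := b + 1 - (k + 1 : ℕ)
      have hm : m' + 1 = m := by simp only [m, m']; omega
      let f := step K (show m' ≤ m by omega)
      let S : ShortComplex (CochainComplex C ℤ) := ShortComplex.mk f (cokernel.π f) (cokernel.condition f)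
      have hSe : S.Exact := ShortComplex.exact_of_g_is_cokernel S (cokernelIsCokernel f)
      let r : ∀ n, (trunc K m').X n ⟶ (trunc K m).X n := fun n =>
        if h : m ≤ n then (haveI := isIso_ι K h; (incl K m').f n ≫ inv ((incl K m).f n)) else 0
      have hr : ∀ n, f.f n ≫ r n = 𝟙 _ := fun n => by
        by_cases h : m ≤ n
        · have := isIso_ι K h
          simp [r, h, f]
        · exact (isZero_X K (show n < m by omega)).eq_of_src _ _
      let σ : ∀ n, (S.map (eval C (ComplexShape.up ℤ) n)).Splitting := fun n =>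
        ShortComplex.Splitting.ofExactOfRetraction _ (hSe.map (eval C (ComplexShape.up ℤ) n)) (r n) (hr n)
          (inferInstanceAs (Epi ((eval C (ComplexShape.up ℤ) n).map (cokernel.π f))))
      have hz : ∀ n, n ≠ m' → IsZero (S.X₃.X n) := fun n hn => by
        refine (IsZero.iff_id_eq_zero _).2 ((σ n).s_g.symm.trans ?_)
        suffices (S.map (eval C (ComplexShape.up ℤ) n)).g = 0 by rw [this, comp_zero]; rfl
        by_cases h : m ≤ n
        · have := isIso_ι K h
          have := isIso_ι K (show m' ≤ n by omega)
          have : IsIso (f.f n) :=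
            ⟨(incl K m').f n ≫ inv ((incl K m).f n), by simp [f],
              by rw [← cancel_mono ((incl K m').f n)]; simp [f]⟩
          exact (cancel_epi (f.f n)).1 ((S.map (eval C (ComplexShape.up ℤ) n)).zero.trans comp_zero.symm)
        · exact (isZero_X K (show n < m' by omega)).eq_of_src _ _
      have hflat : IsFlatObj F (S.X₃.X m') := by
        have h0 : IsZero ((S.map (eval C (ComplexShape.up ℤ) m')).X₁) := isZero_X K (show m' < m by omega)
        have := isIso_ι K (le_refl m')
        let e : S.X₃.X m' ≅ (trunc K m').X m' :=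
          { hom := (σ m').s
            inv := (S.map (eval C (ComplexShape.up ℤ) m')).g
            hom_inv_id := (σ m').s_g
            inv_hom_id := by
              have := (σ m').id
              rw [h0.eq_of_tgt (σ m').r 0, zero_comp, zero_add] at this
              exact this }
        exact (hK m').of_iso F (e ≪≫ asIso ((incl K m').f m')).symm
      have h3 : FlatR F S.X₃ := by
        have := hflat.preservesHomology F
        exact (flatR_single F (S.X₃.X m') m').of_iso F (isoSingle S.X₃ m' hz).symm
      have h2 : FlatR F S.X₂ := FlatR.X₂ (S := S) F σ ih h3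
      exact h2
  have h : FlatR F (colimit (diag K (b + 1))) := FlatR.colimit F _ key
  exact h.of_iso F ((colimit.isColimit _).coconePointUniqueUpToIso (isColimit K (b + 1)))

end Groth.Agent.KFlat
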