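import Groth.Agent.KFlat.Ring
import Groth.Prelude.Def_DTen2

/-!
The structure maps of the derived tensor product on `D(A)` are isomorphisms.
-/

universe u

open CategoryTheory CategoryTheory.Limits MonoidalCategory HomologicalComplex

attribute [local instance] HasDerivedCategory.standard

namespace Groth.Agent.KFlat

variable {A : Type u} [CommRing A]

lemma isKFlat_tensor {K L : DRing.Cx A} (hK : DRing.IsKFlat A K) (hL : DRing.IsKFlat A L) :
    DRing.IsKFlat A (K ⊗ L) := fun M hM i =>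
  (hL (M ⊗ K) (hK M hM) i).of_iso
    ((homologyFunctor (ModuleCat.{u} A) (ComplexShape.up ℤ) i).mapIso (α_ M K L).symm)

lemma isKFlat_unit : DRing.IsKFlat A (𝟙_ (DRing.Cx A)) := fun M hM i =>
  (hM i).of_iso ((homologyFunctor (ModuleCat.{u} A) (ComplexShape.up ℤ) i).mapIso (ρ_ M))

section

variable [DTen.HasLTen A]

/-- The symmetry is an isomorphism. -/
lemma isIso_symm (K L : Dual.D A) : IsIso ((DTen.symm A).app (K, L)) := by
  refine (res₂ A).isIso_app (DTen.QQ A) (DTen.symm A) (fun X hX => ?_) (K, L)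
  obtain ⟨K, L⟩ := X
  have := isIso_ε K L (Or.inl hX.1)
  have := isIso_ε L K (Or.inl hX.2)
  have : IsIso ((DTen.symm A).app (DerivedCategory.Q.obj K, DerivedCategory.Q.obj L) ≫ (DTen.ε A).app (K, L)) := by
    rw [DTen.symm_fac]; infer_instance
  have : IsIso ((DTen.symm A).app ((DTen.QQ A).obj (K, L)) ≫ (DTen.ε A).app (K, L)) := this
  exact IsIso.of_isIso_comp_right _ ((DTen.ε A).app (K, L))

lemma isIso_natTrans_symm : IsIso (DTen.symm A) :=
  have : ∀ X, IsIso ((DTen.symm A).app X) := fun X => isIso_symm X.1 X.2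
  NatIso.isIso_of_isIso_app _

/-- The unit maps are isomorphisms. -/
lemma isIso_unitR : IsIso (DTen.unitR A) := by
  have : ∀ X, IsIso ((DTen.unitR A).app X) := fun X =>
    (res A).isIso_app DerivedCategory.Q (DTen.unitR A) (fun K hK => by
      rw [DTen.unitR_app]
      have := isIso_ε K (𝟙_ (DRing.Cx A)) (Or.inr isKFlat_unit)
      infer_instance) X
  exact NatIso.isIso_of_isIso_app _

lemma isIso_unitL : IsIso (DTen.unitL A) := by
  have : ∀ X, IsIso ((DTen.unitL A).app X) := fun X =>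
    (res A).isIso_app DerivedCategory.Q (DTen.unitL A) (fun K hK => by
      rw [DTen.unitL_app]
      have := isIso_ε (𝟙_ (DRing.Cx A)) K (Or.inl isKFlat_unit)
      infer_instance) X
  exact NatIso.isIso_of_isIso_app _

end

variable (A)

/-- Functorial resolutions of triples. -/
noncomputable def res₃ : FunctorialRes (DTen.qis₃ A) where
  good X := DRing.IsKFlat A X.1 ∧ DRing.IsKFlat A X.2.1 ∧ DRing.IsKFlat A X.2.2
  R := (res A).R.prod (res₂ A).R
  q := NatTrans.prod (res A).q (res₂ A).q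
  good_R X := ⟨(res A).good_R X.1, (res₂ A).good_R X.2⟩
  q_mem X := ⟨(res A).q_mem X.1, (res₂ A).q_mem X.2⟩
  map_mem f hf := ⟨(res A).map_mem f.1 hf.1, (res₂ A).map_mem f.2 hf.2⟩

variable {A}

lemma res₃_inverts : (res₃ A).Inverts (DTen.tensor₃ A) := by
  rintro ⟨K, L, M⟩ ⟨K', L', M'⟩ ⟨f, g, h⟩ ⟨hK, hL, hM⟩ ⟨hK', hL', hM'⟩ ⟨hf, hg, hh⟩
  apply isIso_Q_map
  have h1 := quasiIso_whiskerRight hM g ((mem_quasiIso_iff _).1 hg)
  have h2 := quasiIso_whiskerLeft hL' h ((mem_quasiIso_iff _).1 hh)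
  have h3 : QuasiIso (g ▷ M ≫ L' ◁ h) := quasiIso_comp _ _
  have h4 := quasiIso_whiskerRight (isKFlat_tensor hL hM) f ((mem_quasiIso_iff _).1 hf)
  have h5 := quasiIso_whiskerLeft hK' _ h3
  exact quasiIso_comp (f ▷ (L ⊗ M)) (K' ◁ (g ▷ M ≫ L' ◁ h))

lemma hasLTen₃ : DTen.HasLTen₃ A := (res₃ A).hasLeftDerivedFunctor res₃_inverts

/-- Both associativity legs are isomorphisms. -/
lemma isIso_assoc [DTen.HasLTen A] [DTen.HasLTen₃ A] (X : Dual.D A × Dual.D A × Dual.D A) :
    IsIso ((DTen.assocL A).app X) ∧ IsIso ((DTen.assocR A).app X) := by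
  constructor
  · refine (res₃ A).isIso_app (DTen.QQQ A) (DTen.assocL A) (fun X hX => ?_) X
    have := (res₃ A).isIso_counit (DTen.QQQ A) res₃_inverts (DTen.LTen₃ A) (DTen.ε₃ A) X hX
    have h := DTen.assocL_fac A X
    have : IsIso ((DTen.assocL A).app ((DTen.QQQ A).obj X) ≫ (DTen.ε₃ A).app X) := by
      rw [h]
      dsimp [DTen.βL]
      have := isIso_ε X.1 X.2.1 (Or.inl hX.1)
      have h2 := isIso_ε (X.1 ⊗ X.2.1) X.2.2 (Or.inr hX.2.2)
      have h1 : IsIso (Prod.mkHom ((DTen.ε A).app (X.1, X.2.1)) (𝟙 (DerivedCategory.Q.obj X.2.2))) :=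
        (isIso_prod_iff _ _).2 ⟨inferInstance, inferInstance⟩
      have h4 := @IsIso.comp_isIso _ _ _ _ _ ((DTen.ε A).app (X.1 ⊗ X.2.1, X.2.2))
        (DerivedCategory.Q.map (α_ X.1 X.2.1 X.2.2).hom) h2 inferInstance
      exact @IsIso.comp_isIso _ _ _ _ _ _ _ (Functor.map_isIso (DTen.LTen₂ A) _) h4
    exact IsIso.of_isIso_comp_right _ ((DTen.ε₃ A).app X)
  · refine (res₃ A).isIso_app (DTen.QQQ A) (DTen.assocR A) (fun X hX => ?_) X
    have := (res₃ A).isIso_counit (DTen.QQQ A) res₃_inverts (DTen.LTen₃ A) (DTen.ε₃ A) X hX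
    have h := DTen.assocR_fac A X
    have : IsIso ((DTen.assocR A).app ((DTen.QQQ A).obj X) ≫ (DTen.ε₃ A).app X) := by
      rw [h]
      dsimp [DTen.βR]
      have := isIso_ε X.2.1 X.2.2 (Or.inl hX.2.1)
      have := isIso_ε X.1 (X.2.1 ⊗ X.2.2) (Or.inl hX.1)
      have : IsIso (Prod.mkHom (𝟙 (DerivedCategory.Q.obj X.1)) ((DTen.ε A).app X.2)) :=
        (isIso_prod_iff _ _).2 ⟨inferInstance, inferInstance⟩
      infer_instance
    exact IsIso.of_isIso_comp_right _ ((DTen.ε₃ A).app X)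

end Groth.Agent.KFlat
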