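import Groth.Agent.KFlat.RingFlat
import Groth.Prelude.Def_DTen5
import Mathlib.LinearAlgebra.TensorProduct.Tower

/-!
Extension of scalars of a K-flat complex is K-flat: `res (L ⊗_A ext K) ≅ res L ⊗_R K`.
-/

universe u

open CategoryTheory CategoryTheory.Limits MonoidalCategory HomologicalComplex

namespace Groth.Agent.KFlat

variable {R A : Type u} [CommRing R] [CommRing A] (φ : R →+* A)

/-- `res X ⊗_R M ⟶ res (X ⊗_A ext M)`, `x ⊗ m ↦ x ⊗ (1 ⊗ m)`. -/
noncomputable def projApp (X : ModuleCat.{u} A) (M : ModuleCat.{u} R) :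
    (DTen.resM φ).obj X ⊗ M ⟶ (DTen.resM φ).obj (X ⊗ (ModuleCat.extendScalars.{u, u, u} φ).obj M) :=
  ((DTen.resM φ).obj X ◁ (ModuleCat.extendRestrictScalarsAdj.{u, u, u} φ).unit.app M) ≫
    DTen.resTen₀app φ X ((ModuleCat.extendScalars.{u, u, u} φ).obj M)

lemma bijective_projApp (X : ModuleCat.{u} A) (M : ModuleCat.{u} R) :
    Function.Bijective (projApp φ X M).hom := by
  letI := φ.toAlgebra
  letI : Module R X := Module.compHom X φ
  haveI : IsScalarTower R A X := ⟨fun r a x => mul_smul (φ r) a x⟩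
  let e := TensorProduct.AlgebraTensorModule.cancelBaseChange R A A X M
  have h : ∀ t : TensorProduct R X M, (projApp φ X M).hom t = e.symm t := fun t => by
    induction t using TensorProduct.induction_on with
    | zero => exact (map_zero _).trans (map_zero _).symm
    | tmul x m => rfl
    | add x y hx hy => exact (map_add _ _ _).trans ((congrArg₂ (· + ·) hx hy).trans (map_add _ _ _).symm)
  exact (funext h ▸ e.symm.bijective : Function.Bijective fun t : TensorProduct R X M => (projApp φ X M).hom t)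

/-- `res L ⊗_R K ⟶ res (L ⊗_A ext K)`. -/
noncomputable def projCx (L : DRing.Cx A) (K : DRing.Cx R) :
    (DTen.resCx φ).obj L ⊗ K ⟶ (DTen.resCx φ).obj (L ⊗ (DTen.extCx φ).obj K) :=
  ((DTen.resCx φ).obj L ◁ (DTen.unitCx φ).app K) ≫ DTen.resTenCx φ L ((DTen.extCx φ).obj K)

lemma ι_projCx (L : DRing.Cx A) (K : DRing.Cx R) (p q n : ℤ) (h : p + q = n) :
    ιTensorObj ((DTen.resCx φ).obj L) K p q n h ≫ (projCx φ L K).f n =
      projApp φ (L.X p) (K.X q) ≫ (DTen.resM φ).map (ιTensorObj L ((DTen.extCx φ).obj K) p q n h) := by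
  refine (Category.assoc _ _ _).symm.trans ?_
  refine (congrArg (fun t => t ≫ _) ((congrArg (fun t => _ ≫ t) (mapBifunctorMap_f_eq_degR
    (curriedTensor (ModuleCat.{u} R)) ((DTen.resCx φ).obj L) ((DTen.unitCx φ).app K) n)).trans
      (ι_mapBifunctorDesc _ _ _ _))).trans ?_
  refine (Category.assoc _ _ _).trans ((congrArg (fun t => _ ≫ t)
    (DTen.ι_resTenCx φ L ((DTen.extCx φ).obj K) p q n h)).trans (Category.assoc _ _ _).symm)

lemma isIso_projCx_f (L : DRing.Cx A) (K : DRing.Cx R) (n : ℤ) : IsIso ((projCx φ L K).f n) := by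
  let c₂ := (DTen.resM φ).mapCocone
    (summandsCocone (curriedTensor (ModuleCat.{u} A)) L ((DTen.extCx φ).obj K) n)
  let hc₂ : IsColimit c₂ :=
    isColimitOfPreserves (DTen.resM φ) (isColimitSummands (curriedTensor (ModuleCat.{u} A)) L ((DTen.extCx φ).obj K) n)
  let hc₁ := isColimitSummands (curriedTensor (ModuleCat.{u} R)) ((DTen.resCx φ).obj L) K n
  have : ∀ i : Discrete (Bideg n), IsIso (projApp φ (L.X i.as.1.1) (K.X i.as.1.2)) := fun i =>
    (ConcreteCategory.isIso_iff_bijective _).2 (bijective_projApp φ _ _)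
  let θ : summands (curriedTensor (ModuleCat.{u} R)) ((DTen.resCx φ).obj L) K n ≅
      summands (curriedTensor (ModuleCat.{u} A)) L ((DTen.extCx φ).obj K) n ⋙ DTen.resM φ :=
    Discrete.natIso fun i => @asIso _ _ _ _ (projApp φ (L.X i.as.1.1) (K.X i.as.1.2)) (this i)
  have e : (projCx φ L K).f n = (IsColimit.coconePointsIsoOfNatIso hc₁ hc₂ θ).hom :=
    hc₁.hom_ext fun i => (ι_projCx φ L K i.as.1.1 i.as.1.2 n i.as.2).trans
      (IsColimit.comp_coconePointsIsoOfNatIso_hom hc₁ hc₂ θ i).symm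
  rw [e]
  exact (IsColimit.coconePointsIsoOfNatIso hc₁ hc₂ θ).isIso_hom

lemma isIso_projCx (L : DRing.Cx A) (K : DRing.Cx R) : IsIso (projCx φ L K) :=
  have := isIso_projCx_f φ L K
  Hom.isIso_of_components _

lemma acyclic_resCx_iff (L : DRing.Cx A) :
    (∀ i, IsZero (((DTen.resCx φ).obj L).homology i)) ↔ ∀ i, IsZero (L.homology i) :=
  forall_congr' fun i => by
    rw [← exactAt_iff_isZero_homology, ← exactAt_iff_isZero_homology]
    exact ShortComplex.exact_map_iff_of_faithful (L.sc i) (DTen.resM φ)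

/-- Extension of scalars of a K-flat complex is K-flat. -/
lemma isKFlat_ext {K : DRing.Cx R} (hK : DRing.IsKFlat R K) : DRing.IsKFlat A ((DTen.extCx φ).obj K) :=
  fun L hL => (acyclic_resCx_iff φ _).1 fun i =>
    have := isIso_projCx φ L K
    (hK _ ((acyclic_resCx_iff φ L).2 hL) i).of_iso
      ((homologyFunctor (ModuleCat.{u} R) (ComplexShape.up ℤ) i).mapIso (asIso (projCx φ L K))).symm

end Groth.Agent.KFlat
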