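import Groth.Agent.KFlat.Tensor
import Groth.Prelude.Def_DTen
import Mathlib.Algebra.Category.ModuleCat.AB
import Mathlib.Algebra.Category.ModuleCat.Monoidal.Closed
import Mathlib.RingTheory.Flat.CategoryTheory
import Mathlib.CategoryTheory.Category.ULift

/-!
K-flat complexes of modules over a commutative ring: functorial resolutions, quasi-isomorphism invariance of the
tensor product, and the derived tensor product.
-/

universe u

open CategoryTheory CategoryTheory.Limits MonoidalCategory HomologicalComplex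

attribute [local instance] HasDerivedCategory.standard

namespace Groth.Agent.KFlat

variable (A : Type u) [CommRing A]

instance hasExactColimitsOfShape_nat : HasExactColimitsOfShape ℕ (ModuleCat.{u} A) :=
  HasExactColimitsOfShape.of_domain_equivalence (C := ModuleCat.{u} A)
    (ULiftHomULiftCategory.equiv.{u, u} ℕ).symm

instance preservesColimits_flip (X : ModuleCat.{u} A) :
    PreservesColimitsOfSize.{u, u} ((curriedTensor (ModuleCat.{u} A)).flip.obj X) :=
  preservesColimits_of_natIso (NatIso.ofComponents (fun Y => β_ X Y) (fun f => by simp) :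
    (curriedTensor (ModuleCat.{u} A)).obj X ≅ (curriedTensor (ModuleCat.{u} A)).flip.obj X)

instance preservesHomology_flip_of_flat (X : ModuleCat.{u} A) [Module.Flat A X] :
    ((curriedTensor (ModuleCat.{u} A)).flip.obj X).PreservesHomology :=
  have : (tensorRight X).Additive := inferInstance
  Functor.preservesHomology_of_map_exact (tensorRight X) fun S hS => Module.Flat.rTensor_shortComplex_exact X S hS

instance flat_self : Module.Flat A (ModuleCat.of A A) := inferInstanceAs (Module.Flat A A)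

/-- The free module of rank one separates. -/
lemma self_separates {X Y : ModuleCat.{u} A} (f g : X ⟶ Y)
    (h : ∀ (_ : PUnit.{u + 1}) (a : ModuleCat.of A A ⟶ X), a ≫ f = a ≫ g) : f = g := by
  ext x
  simpa using congrArg (fun t => t.hom (1 : A)) (h ⟨⟩ (ModuleCat.ofHom (LinearMap.toSpanSingleton A X x)))

lemma isKFlat_iff (K : DRing.Cx A) : DRing.IsKFlat A K ↔ FlatR (curriedTensor (ModuleCat.{u} A)) K := Iff.rfl

/-- Over a commutative ring the two slots agree. -/
lemma flatL_of_flatR (K : DRing.Cx A) (hK : FlatR (curriedTensor (ModuleCat.{u} A)) K) :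
    FlatL (curriedTensor (ModuleCat.{u} A)) K := fun M hM i =>
  (hK M hM i).of_iso ((homologyFunctor (ModuleCat.{u} A) (ComplexShape.up ℤ) i).mapIso (DTen.braidCx K M))

/-- Functorial K-flat resolutions. -/
noncomputable def res : FunctorialRes (DTen.qis A) :=
  resolution (curriedTensor (ModuleCat.{u} A)) (fun _ : PUnit.{u + 1} => ModuleCat.of A A) (self_separates A)

lemma res_good (K : DRing.Cx A) : (res A).good K ↔ DRing.IsKFlat A K := Iff.rfl

/-- Functorial resolutions of pairs. -/
noncomputable def res₂ : FunctorialRes (DTen.qis₂ A) :=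
  resolution₂ (curriedTensor (ModuleCat.{u} A)) (fun _ : PUnit.{u + 1} => ModuleCat.of A A) (self_separates A)

lemma exists_kFlat_resolution (M : DRing.Cx A) :
    ∃ (K : DRing.Cx A) (f : K ⟶ M), DRing.IsKFlat A K ∧ QuasiIso f :=
  ⟨(res A).R.obj M, (res A).q.app M, (res A).good_R M, (mem_quasiIso_iff _).1 ((res A).q_mem M)⟩

variable {A}

lemma quasiIso_whiskerRight {K : DRing.Cx A} (hK : DRing.IsKFlat A K) {L₁ L₂ : DRing.Cx A} (f : L₁ ⟶ L₂)
    (hf : QuasiIso f) : QuasiIso (f ▷ K) :=
  FlatR.quasiIso _ hK f hf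

lemma quasiIso_whiskerLeft {K : DRing.Cx A} (hK : DRing.IsKFlat A K) {L₁ L₂ : DRing.Cx A} (f : L₁ ⟶ L₂)
    (hf : QuasiIso f) : QuasiIso (K ◁ f) :=
  FlatL.quasiIso _ (flatL_of_flatR A K hK) f hf

lemma quasiIso_whiskerLeft_of_kFlat {P Q : DRing.Cx A} (hP : DRing.IsKFlat A P) (hQ : DRing.IsKFlat A Q)
    (α : P ⟶ Q) (hα : QuasiIso α) (L : DRing.Cx A) : QuasiIso (L ◁ α) :=
  quasiIso_tensR_map _ _ (self_separates A) (flatL_of_flatR A) hP hQ α hα L

lemma isIso_Q_map {K L : DRing.Cx A} (f : K ⟶ L) (hf : QuasiIso f) : IsIso (DerivedCategory.Q.map f) :=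
  Localization.inverts DerivedCategory.Q (DTen.qis A) f ((mem_quasiIso_iff _).2 hf)

lemma res₂_inverts : (res₂ A).Inverts (DTen.tensor₂ A) := by
  rintro ⟨K, L⟩ ⟨K', L'⟩ ⟨f, g⟩ hX hY ⟨hf, hg⟩
  apply isIso_Q_map
  have h1 := quasiIso_whiskerRight hX.2 f ((mem_quasiIso_iff _).1 hf)
  have h2 := quasiIso_whiskerLeft hY.1 g ((mem_quasiIso_iff _).1 hg)
  exact quasiIso_comp (f ▷ L) (K' ◁ g)

lemma hasLTen : DTen.HasLTen A := (res₂ A).hasLeftDerivedFunctor res₂_inverts

variable [DTen.HasLTen A]

/-- The derived tensor product is computed by K-flat complexes in either variable. -/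
lemma isIso_ε (K L : DRing.Cx A) (h : DRing.IsKFlat A K ∨ DRing.IsKFlat A L) :
    IsIso ((DTen.ε A).app (K, L)) := by
  have hq : ∀ M : DRing.Cx A, QuasiIso ((res A).q.app M) := fun M => (mem_quasiIso_iff _).1 ((res A).q_mem M)
  have hgood : ∀ M N : DRing.Cx A, DRing.IsKFlat A M → DRing.IsKFlat A N → IsIso ((DTen.ε A).app (M, N)) :=
    fun M N hM hN => (res₂ A).isIso_counit (DTen.QQ A) res₂_inverts (DTen.LTen₂ A) (DTen.ε A) (M, N) ⟨hM, hN⟩
  rcases h with h | h
  · let g : ((K, (res A).R.obj L) : DRing.Cx A × DRing.Cx A) ⟶ (K, L) := Prod.mkHom (𝟙 K) ((res A).q.app L)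
    have : IsIso ((DTen.QQ A).map g) :=
      Localization.inverts (DTen.QQ A) (DTen.qis₂ A) g
        ⟨(mem_quasiIso_iff _).2 inferInstance, (res A).q_mem L⟩
    have : IsIso ((DTen.tensor₂ A).map g) := by
      apply isIso_Q_map
      have h2 := quasiIso_whiskerLeft h _ (hq L)
      dsimp [g]
      simpa using h2
    have h1 := hgood K ((res A).R.obj L) h ((res A).good_R L)
    have e := (DTen.ε A).naturality g
    have : IsIso ((DTen.QQ A ⋙ DTen.LTen₂ A).map g ≫ (DTen.ε A).app (K, L)) := by rw [e]; infer_instance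
    have : IsIso ((DTen.QQ A ⋙ DTen.LTen₂ A).map g) := inferInstanceAs (IsIso ((DTen.LTen₂ A).map ((DTen.QQ A).map g)))
    exact IsIso.of_isIso_comp_left ((DTen.QQ A ⋙ DTen.LTen₂ A).map g) _
  · let g : (((res A).R.obj K, L) : DRing.Cx A × DRing.Cx A) ⟶ (K, L) := Prod.mkHom ((res A).q.app K) (𝟙 L)
    have : IsIso ((DTen.QQ A).map g) :=
      Localization.inverts (DTen.QQ A) (DTen.qis₂ A) g
        ⟨(res A).q_mem K, (mem_quasiIso_iff _).2 inferInstance⟩
    have : IsIso ((DTen.tensor₂ A).map g) := by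
      apply isIso_Q_map
      have h2 := quasiIso_whiskerRight h _ (hq K)
      dsimp [g]
      simpa using h2
    have h1 := hgood ((res A).R.obj K) L ((res A).good_R K) h
    have e := (DTen.ε A).naturality g
    have : IsIso ((DTen.QQ A ⋙ DTen.LTen₂ A).map g ≫ (DTen.ε A).app (K, L)) := by rw [e]; infer_instance
    have : IsIso ((DTen.QQ A ⋙ DTen.LTen₂ A).map g) := inferInstanceAs (IsIso ((DTen.LTen₂ A).map ((DTen.QQ A).map g)))
    exact IsIso.of_isIso_comp_left ((DTen.QQ A ⋙ DTen.LTen₂ A).map g) _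

lemma kFlatComputes : DTen.KFlatComputes A := ⟨isIso_ε⟩

end Groth.Agent.KFlat
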