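import Mathlib.CategoryTheory.Abelian.GrothendieckAxioms.Colim
import Mathlib.CategoryTheory.Abelian.FunctorCategory
import Mathlib.CategoryTheory.Limits.Connected
import Mathlib.Algebra.Homology.ShortComplex.Abelian
import Mathlib.Algebra.Homology.HomologicalComplexLimits
import Mathlib.Algebra.Homology.QuasiIso
import Mathlib.Algebra.Homology.Refinements

/-!
Exact colimits and homology: colimits of acyclic complexes are acyclic, cycles of a colimit are jointly covered
by the cycles of the terms, and a criterion for a map out of a colimit of complexes to be injective on homology.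
-/

universe v u v' u'

open CategoryTheory CategoryTheory.Limits HomologicalComplex

namespace Groth.Agent.KFlat

variable {C : Type u} [Category.{v} C] [Abelian C] {J : Type u'} [Category.{v'} J]

/-- A pointwise exact short complex of functors is exact. -/
lemma exact_of_app (S : ShortComplex (J ⥤ C))
    (h : ∀ j, (S.map ((evaluation J C).obj j)).Exact) : S.Exact := by
  rw [ShortComplex.exact_iff_isZero_homology, Functor.isZero_iff]
  intro j
  exact ((ShortComplex.exact_iff_isZero_homology _).1 (h j)).of_iso
    (S.mapHomologyIso ((evaluation J C).obj j)).symm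

variable [HasColimitsOfShape J C] [HasExactColimitsOfShape J C]

section

variable {Φ Ψ : J ⥤ C} (τ : Φ ⟶ Ψ) (c : Cocone Φ) (hc : IsColimit c) (c' : Cocone Ψ) (hc' : IsColimit c')
  (t : c.pt ⟶ c'.pt) (ht : ∀ j, c.ι.app j ≫ t = τ.app j ≫ c'.ι.app j)

include hc hc' ht in
/-- The kernels of `τ.app j` jointly cover the kernel of the map between the colimits. -/
lemma kernel_jointly_epi {X : C} (f g : kernel t ⟶ X)
    (h : ∀ j, kernel.lift t ((kernel.ι τ).app j ≫ c.ι.app j)
        (by rw [Category.assoc, ht j, ← NatTrans.comp_app_assoc, kernel.condition]; simp) ≫ f =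
      kernel.lift t ((kernel.ι τ).app j ≫ c.ι.app j)
        (by rw [Category.assoc, ht j, ← NatTrans.comp_app_assoc, kernel.condition]; simp) ≫ g) :
    f = g := by
  let S : ShortComplex (J ⥤ C) := ShortComplex.mk (kernel.ι τ) τ (kernel.condition τ)
  have hS : S.Exact := ShortComplex.exact_of_f_is_kernel S (kernelIsKernel τ)
  let c₁ := colimit.cocone (kernel τ)
  let i : c₁.pt ⟶ c.pt := colimit.desc (kernel τ) ((Cocone.precompose (kernel.ι τ)).obj c)
  have hi : ∀ j, c₁.ι.app j ≫ i = (kernel.ι τ).app j ≫ c.ι.app j := fun j => colimit.ι_desc _ j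
  have hex := Limits.colim.exact_mapShortComplex (S := S) hS (colimit.isColimit _) hc hc' i t hi ht
  have : Epi (kernel.lift t i
      (colimit.hom_ext fun j => by
        have e := hi j
        dsimp [c₁] at e
        rw [reassoc_of% e, ht j, ← NatTrans.comp_app_assoc, kernel.condition]; simp)) :=
    hex.epi_kernelLift
  rw [← cancel_epi (kernel.lift t i _)]
  · refine colimit.hom_ext fun j => ?_
    have e : colimit.ι (kernel τ) j ≫ kernel.lift t i
        (colimit.hom_ext fun j => by
          have e := hi j
          dsimp [c₁] at e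
          rw [reassoc_of% e, ht j, ← NatTrans.comp_app_assoc, kernel.condition]; simp) =
        kernel.lift t ((kernel.ι τ).app j ≫ c.ι.app j)
        (by rw [Category.assoc, ht j, ← NatTrans.comp_app_assoc, kernel.condition]; simp) := by
      refine (cancel_mono (kernel.ι t)).1 ?_
      simpa [c₁] using hi j
    rw [reassoc_of% e, reassoc_of% e]
    exact h j

end

section Complexes

variable {I : Type*} {sh : ComplexShape I} (F : J ⥤ HomologicalComplex C sh) (c : Cocone F) (hc : IsColimit c)

/-- The differential as a natural transformation. -/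
@[simps]
def dNat (i k : I) : F ⋙ eval C sh i ⟶ F ⋙ eval C sh k where
  app j := (F.obj j).d i k
  naturality j j' f := (F.map f).comm i k

include hc in
/-- A colimit of acyclic complexes is acyclic when colimits are exact. -/
lemma exactAt_of_isColimit (n : I) (h : ∀ j, (F.obj j).ExactAt n) : c.pt.ExactAt n := by
  let S : ShortComplex (J ⥤ C) := ShortComplex.mk (dNat F (sh.prev n) n) (dNat F n (sh.next n))
    (by ext j; exact (F.obj j).d_comp_d _ _ _)
  have hS : S.Exact := exact_of_app S fun j => h j
  exact Limits.colim.exact_mapShortComplex (S := S) hS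
    (isColimitOfPreserves (eval C sh (sh.prev n)) hc) (isColimitOfPreserves (eval C sh n) hc)
    (isColimitOfPreserves (eval C sh (sh.next n)) hc) (c.pt.d _ _) (c.pt.d _ _)
    (fun j => (c.ι.app j).comm _ _) (fun j => (c.ι.app j).comm _ _)

include hc in
/-- The cycles of the terms jointly cover the cycles of the colimit. -/
lemma cycles_jointly_epi (n : I) {X : C} (f g : c.pt.cycles n ⟶ X)
    (h : ∀ j, cyclesMap (c.ι.app j) n ≫ f = cyclesMap (c.ι.app j) n ≫ g) : f = g := by
  let τ := dNat F n (sh.next n)
  have ht : ∀ j, (c.ι.app j).f n ≫ c.pt.d n (sh.next n) = τ.app j ≫ (c.ι.app j).f (sh.next n) :=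
    fun j => (c.ι.app j).comm _ _
  let e : kernel (c.pt.d n (sh.next n)) ⟶ c.pt.cycles n :=
    c.pt.liftCycles (kernel.ι _) _ rfl (kernel.condition _)
  have : Epi e := by
    refine epi_of_epi_fac (f := kernel.lift _ (c.pt.iCycles n) (c.pt.iCycles_d n _)) (h := 𝟙 _) ?_
    rw [← cancel_mono (c.pt.iCycles n)]
    simp [e]
  rw [← cancel_epi e]
  refine kernel_jointly_epi τ _ (isColimitOfPreserves (eval C sh n) hc) _
    (isColimitOfPreserves (eval C sh (sh.next n)) hc) (c.pt.d n (sh.next n)) ht _ _ fun j => ?_
  have hτ : (kernel.ι τ).app j ≫ (F.obj j).d n (sh.next n) = 0 := by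
    change ((kernel.ι τ) ≫ τ).app j = 0
    rw [kernel.condition]; rfl
  have : kernel.lift (c.pt.d n (sh.next n)) ((kernel.ι τ).app j ≫ (c.ι.app j).f n)
        (((Category.assoc _ _ _).trans ((congrArg (fun y => _ ≫ y) (ht j)).trans (Category.assoc _ _ _).symm)).trans ((congrArg (fun y => y ≫ _) hτ).trans zero_comp)) ≫ e =
      (F.obj j).liftCycles ((kernel.ι τ).app j) _ rfl hτ ≫ cyclesMap (c.ι.app j) n := by
    rw [← cancel_mono (c.pt.iCycles n)]
    simp only [e, Category.assoc, HomologicalComplex.liftCycles_i]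
    erw [kernel.lift_ι, cyclesMap_i, HomologicalComplex.liftCycles_i_assoc]
    rfl
  exact (reassoc_of% this) f |>.trans ((congrArg _ (h j)).trans ((reassoc_of% this) g).symm)

include hc in
/-- If, for every `j`, the part of `Hⁿ(F j)` killed by `f` dies in some later stage, then `f : colim F ⟶ G` is
injective on `Hⁿ`. -/
lemma mono_homologyMap_of_isColimit [IsConnected J] {G : HomologicalComplex C sh} (f : c.pt ⟶ G) (n : I)
    (h : ∀ j, ∃ (j' : J) (a : j ⟶ j'), ∀ (A : C) (x : A ⟶ (F.obj j).homology n),
      x ≫ homologyMap (c.ι.app j ≫ f) n = 0 → x ≫ homologyMap (F.map a) n = 0) :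
    Mono (homologyMap f n) := by
  let Z : J ⥤ C := F ⋙ cyclesFunctor C sh n
  let cZ : Cocone Z := (cyclesFunctor C sh n).mapCocone c
  -- the cycles form a colimit cocone: they are jointly epi and embed in a colimit
  let iz : Z ⟶ F ⋙ eval C sh n :=
    { app := fun j => (F.obj j).iCycles n, naturality := fun _ _ a => cyclesMap_i (F.map a) n }
  let d : colimit Z ⟶ c.pt.cycles n := colimit.desc Z cZ
  have hd : ∀ j, colimit.ι Z j ≫ d = cyclesMap (c.ι.app j) n := fun j => colimit.ι_desc cZ j
  have : Epi d := ⟨fun g₁ g₂ hg => cycles_jointly_epi F c hc n g₁ g₂ fun j => by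
    rw [← hd j]; exact (Category.assoc _ _ _).trans ((congrArg (fun y => colimit.ι Z j ≫ y) hg).trans (Category.assoc _ _ _).symm)⟩
  have : ∀ j, Mono (iz.app j) := fun j => inferInstanceAs (Mono ((F.obj j).sc n).iCycles)
  have : Mono iz := NatTrans.mono_of_mono_app iz
  have hmono : Mono (d ≫ c.pt.iCycles n) :=
    Limits.colim.map_mono' iz (colimit.isColimit Z) (isColimitOfPreserves (eval C sh n) hc) _
      fun j => ((Category.assoc _ _ _).symm.trans (congrArg (fun y => y ≫ _) (hd j))).trans (cyclesMap_i _ n)
  have : Mono d := mono_of_mono d (c.pt.iCycles n)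
  have hiso : IsIso d := isIso_of_mono_of_epi d
  have hcZ : IsColimit cZ :=
    IsColimit.ofIsoColimit (colimit.isColimit Z) (Cocone.ext (@asIso _ _ _ _ d hiso) fun j => colimit.ι_desc _ j)
  -- the composite cycles ⟶ Hⁿ G
  let τ : Z ⟶ (Functor.const J).obj (G.homology n) :=
    { app := fun j => (F.obj j).homologyπ n ≫ homologyMap (c.ι.app j ≫ f) n
      naturality := fun j j' a => by
        change cyclesMap (F.map a) n ≫ (F.obj j').homologyπ n ≫ homologyMap (c.ι.app j' ≫ f) n =
          ((F.obj j).homologyπ n ≫ homologyMap (c.ι.app j ≫ f) n) ≫ 𝟙 _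
        rw [← homologyπ_naturality_assoc, ← homologyMap_comp, c.w_assoc, Category.comp_id] }
  refine Preadditive.mono_of_cancel_zero _ fun {A} x hx => ?_
  obtain ⟨A', π, hπ, z, hz, hzx⟩ := c.pt.eq_liftCycles_homologyπ_up_to_refinements x _ rfl
  rw [← cancel_epi π, comp_zero, hzx]
  let t : c.pt.cycles n ⟶ G.homology n := c.pt.homologyπ n ≫ homologyMap f n
  have ht : ∀ j, cZ.ι.app j ≫ t = τ.app j ≫ 𝟙 _ := fun j => by
    refine Eq.trans ?_ (Category.comp_id _).symm
    change cyclesMap (c.ι.app j) n ≫ c.pt.homologyπ n ≫ homologyMap f n =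
      (F.obj j).homologyπ n ≫ homologyMap (c.ι.app j ≫ f) n
    rw [homologyMap_comp, homologyπ_naturality_assoc]
    rfl
  have hzt : c.pt.liftCycles z _ rfl hz ≫ t = 0 := by
    rw [show t = c.pt.homologyπ n ≫ homologyMap f n from rfl, ← Category.assoc, ← hzx,
      Category.assoc, hx, comp_zero]
  have key : kernel.ι t ≫ c.pt.homologyπ n = 0 := by
    refine kernel_jointly_epi τ cZ hcZ _ (isColimitConstCocone J (G.homology n)) t ht _ _ fun j => ?_
    refine Eq.trans ?_ comp_zero.symm
    obtain ⟨j', a, ha⟩ := h j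
    have h0 : (kernel.ι τ).app j ≫ (F.obj j).homologyπ n ≫ homologyMap (c.ι.app j ≫ f) n = 0 := by
      change ((kernel.ι τ) ≫ τ).app j = 0
      rw [kernel.condition]; rfl
    have h1 := ha _ _ ((Category.assoc _ _ _).trans h0)
    refine (kernel.lift_ι_assoc _ _ _ _).trans ?_
    refine (Category.assoc _ _ _).trans ?_
    change (kernel.ι τ).app j ≫ cyclesMap (c.ι.app j) n ≫ c.pt.homologyπ n = 0
    have e : cyclesMap (c.ι.app j) n ≫ c.pt.homologyπ n =
        ((F.obj j).homologyπ n ≫ homologyMap (F.map a) n) ≫ homologyMap (c.ι.app j') n := by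
      refine (homologyπ_naturality (c.ι.app j) n).symm.trans ?_
      rw [← c.w a, homologyMap_comp]
      exact (Category.assoc _ _ _).symm
    refine (congrArg (fun y => (kernel.ι τ).app j ≫ y) e).trans ?_
    exact (Category.assoc _ _ _).symm.trans
      ((congrArg (fun y => y ≫ _) ((Category.assoc _ _ _).symm.trans h1)).trans zero_comp)
  rw [← kernel.lift_ι t _ hzt, Category.assoc, key, comp_zero]

end Complexes

end Groth.Agent.KFlat
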