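import Groth.Agent.KFlat.Tensor
import Mathlib.Algebra.Homology.Embedding.CochainComplex
import Mathlib.Algebra.Homology.BifunctorHomotopy
import Mathlib.Algebra.Homology.HomotopyCategory.Pretriangulated

/-!
Flat objects and K-flat complexes: termwise flat resolutions, bounded above complexes of flat objects,
factorisations through K-flat complexes, invariance under homotopy equivalence.
-/

universe v u v' u'

open CategoryTheory CategoryTheory.Limits HomologicalComplex

namespace Groth.Agent.KFlat

variable {C : Type u} [Category.{v} C] [Abelian C] (F : C ⥤ C ⥤ C) [F.Additive] [∀ X, (F.obj X).Additive]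

/-- An object `P` is flat for `F` when `- ⊗ P` is exact. -/
def IsFlatObj (P : C) : Prop := ∀ S : ShortComplex C, S.Exact → (S.map (F.flip.obj P)).Exact

lemma IsFlatObj.preservesHomology {P : C} (h : IsFlatObj F P) : (F.flip.obj P).PreservesHomology :=
  Functor.preservesHomology_of_map_exact _ h

lemma isFlatObj_of_preservesHomology (P : C) [(F.flip.obj P).PreservesHomology] : IsFlatObj F P :=
  fun _ hS => hS.map (F.flip.obj P)

lemma IsFlatObj.of_isZero {P : C} (h : IsZero P) : IsFlatObj F P := fun S _ =>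
  ShortComplex.exact_of_isZero_X₂ _ (Functor.map_isZero (F.obj S.X₂) h)

lemma IsFlatObj.of_iso {P P' : C} (e : P ≅ P') (h : IsFlatObj F P) : IsFlatObj F P' := fun S hS =>
  (ShortComplex.exact_iff_of_iso (S.mapNatIso (F.flip.mapIso e))).1 (h S hS)

section Colim

variable {J : Type u'} [Category.{v'} J] [HasColimitsOfShape J C] [HasExactColimitsOfShape J C]
  [∀ X, PreservesColimitsOfShape J (F.obj X)]

/-- Exact colimits of flat objects are flat. -/
lemma IsFlatObj.of_isColimit {D : J ⥤ C} {c : Cocone D} (hc : IsColimit c) (h : ∀ j, IsFlatObj F (D.obj j)) :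
    IsFlatObj F c.pt := fun S hS => by
  let S' : ShortComplex (J ⥤ C) := ShortComplex.mk (Functor.whiskerLeft D (F.map S.f))
    (Functor.whiskerLeft D (F.map S.g)) (by rw [← Functor.whiskerLeft_comp, ← F.map_comp, S.zero, F.map_zero]; rfl)
  have hS' : S'.Exact := exact_of_app S' fun j => h j S hS
  exact Limits.colim.exact_mapShortComplex (S := S') hS'
    (isColimitOfPreserves (F.obj S.X₁) hc) (isColimitOfPreserves (F.obj S.X₂) hc)
    (isColimitOfPreserves (F.obj S.X₃) hc) ((F.map S.f).app c.pt) ((F.map S.g).app c.pt)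
    (fun j => (F.map S.f).naturality (c.ι.app j)) (fun j => (F.map S.g).naturality (c.ι.app j))

end Colim

omit [∀ X, (F.obj X).Additive] in
/-- Extensions split: a biproduct of flat objects is flat. -/
lemma IsFlatObj.of_splitting [∀ X, (F.obj X).Additive] {S : ShortComplex C} (σ : S.Splitting)
    (h₁ : IsFlatObj F S.X₁) (h₃ : IsFlatObj F S.X₃) : IsFlatObj F S.X₂ := fun T hT => by
  rw [ShortComplex.exact_iff_isZero_homology, IsZero.iff_id_eq_zero]
  have key : ∀ X, (F.obj X).map σ.r ≫ (F.obj X).map S.f + (F.obj X).map S.g ≫ (F.obj X).map σ.s = 𝟙 _ := fun X => by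
    rw [← Functor.map_comp, ← Functor.map_comp, ← Functor.map_add, σ.id, CategoryTheory.Functor.map_id]
  have e1 : 𝟙 (T.map (F.flip.obj S.X₂)) =
      T.mapNatTrans (F.flip.map σ.r) ≫ T.mapNatTrans (F.flip.map S.f) +
        T.mapNatTrans (F.flip.map S.g) ≫ T.mapNatTrans (F.flip.map σ.s) := by
    ext <;> exact (key _).symm
  rw [← ShortComplex.homologyMap_id, e1, ShortComplex.homologyMap_add, ShortComplex.homologyMap_comp,
    ShortComplex.homologyMap_comp,
    ((ShortComplex.exact_iff_isZero_homology _).1 (h₁ T hT)).eq_zero_of_tgt (ShortComplex.homologyMap (T.mapNatTrans (F.flip.map σ.r))),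
    ((ShortComplex.exact_iff_isZero_homology _).1 (h₃ T hT)).eq_zero_of_tgt (ShortComplex.homologyMap (T.mapNatTrans (F.flip.map S.g)))]
  simp

variable [∀ K L : CochainComplex C ℤ, HasMapBifunctor K L F (ComplexShape.up ℤ)]

section ShortExact

/-- A degreewise split extension in which two members are K-flat: the sub is K-flat. -/
lemma FlatR.X₁ {S : ShortComplex (CochainComplex C ℤ)}
    (σ : ∀ n, (S.map (eval C (ComplexShape.up ℤ) n)).Splitting) (h₂ : FlatR F S.X₂) (h₃ : FlatR F S.X₃) :
    FlatR F S.X₁ := fun M hM i => by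
  have hS := shortExact_tensR F S σ M
  exact ((hS.homology_exact₁ (i - 1) i (by simp)).isZero_of_both_zeros ((h₃ M hM _).eq_of_src _ _)
    ((h₂ M hM _).eq_of_tgt _ _))

/-- A degreewise split extension in which two members are K-flat: the quotient is K-flat. -/
lemma FlatR.X₃ {S : ShortComplex (CochainComplex C ℤ)}
    (σ : ∀ n, (S.map (eval C (ComplexShape.up ℤ) n)).Splitting) (h₁ : FlatR F S.X₁) (h₂ : FlatR F S.X₂) :
    FlatR F S.X₃ := fun M hM i => by
  have hS := shortExact_tensR F S σ M
  exact ((hS.homology_exact₃ i (i + 1) (by simp)).isZero_of_both_zeros ((h₂ M hM _).eq_of_src _ _)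
    ((h₁ M hM _).eq_of_tgt _ _))

lemma FlatR.biprod {K L : CochainComplex C ℤ} (hK : FlatR F K) (hL : FlatR F L) : FlatR F (K ⊞ L) :=
  let S' : ShortComplex (CochainComplex C ℤ) := ShortComplex.mk (biprod.inl : K ⟶ K ⊞ L) biprod.snd biprod.inl_snd
  let σ' : S'.Splitting :=
    { r := biprod.fst, s := biprod.inr, f_r := biprod.inl_fst, s_g := biprod.inr_snd, id := biprod.total }
  FlatR.X₂ F (S := S') (fun n => σ'.map (eval C (ComplexShape.up ℤ) n)) hK hL

/-- K-flatness is invariant under homotopy equivalence. -/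
lemma FlatR.of_homotopyEquiv {K L : CochainComplex C ℤ} (e : HomotopyEquiv K L) (hK : FlatR F K) : FlatR F L := by
  intro M hM i
  have h : homologyMap ((tensR F M).map (e.inv ≫ e.hom)) i = homologyMap ((tensR F M).map (𝟙 L)) i :=
    (mapBifunctorMapHomotopy₂ (𝟙 M) e.homotopyInvHomId F (ComplexShape.up ℤ)).homologyMap_eq i
  rw [Functor.map_comp, homologyMap_comp, CategoryTheory.Functor.map_id, homologyMap_id,
    (hK M hM i).eq_zero_of_tgt (homologyMap ((tensR F M).map e.inv) i), Limits.zero_comp] at h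
  exact (IsZero.iff_id_eq_zero _).2 h.symm

end ShortExact

section Termwise

/-- Termwise flat complexes. -/
def TermFlat (K : CochainComplex C ℤ) : Prop := ∀ n, IsFlatObj F (K.X n)

omit [∀ K L : CochainComplex C ℤ, HasMapBifunctor K L F (ComplexShape.up ℤ)] in
lemma TermFlat.of_isZero {K : CochainComplex C ℤ} (h : IsZero K) : TermFlat F K := fun n =>
  IsFlatObj.of_isZero F ((eval C (ComplexShape.up ℤ) n).map_isZero h)

omit [∀ K L : CochainComplex C ℤ, HasMapBifunctor K L F (ComplexShape.up ℤ)] in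
lemma TermFlat.single {P : C} (h : IsFlatObj F P) (m : ℤ) :
    TermFlat F ((CochainComplex.singleFunctor C m).obj P) := fun n => by
  by_cases hn : n = m
  · subst hn
    exact h.of_iso F (singleObjXSelf (ComplexShape.up ℤ) n P).symm
  · exact IsFlatObj.of_isZero F (isZero_single_obj_X (ComplexShape.up ℤ) m P n hn)

omit [∀ K L : CochainComplex C ℤ, HasMapBifunctor K L F (ComplexShape.up ℤ)] in
lemma TermFlat.colimit {J : Type u'} [Category.{v'} J] [HasColimitsOfShape J C] [HasExactColimitsOfShape J C]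
    [∀ X, PreservesColimitsOfShape J (F.obj X)] (D : J ⥤ CochainComplex C ℤ) (hD : ∀ j, TermFlat F (D.obj j)) :
    TermFlat F (colimit D) := fun n =>
  IsFlatObj.of_isColimit F (isColimitOfPreserves (eval C (ComplexShape.up ℤ) n) (colimit.isColimit D))
    fun j => hD j n

omit [∀ K L : CochainComplex C ℤ, HasMapBifunctor K L F (ComplexShape.up ℤ)] in
lemma TermFlat.X₂ {S : ShortComplex (CochainComplex C ℤ)}
    (σ : ∀ n, (S.map (eval C (ComplexShape.up ℤ) n)).Splitting) (h₁ : TermFlat F S.X₁) (h₃ : TermFlat F S.X₃) :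
    TermFlat F S.X₂ := fun n => IsFlatObj.of_splitting F (σ n) (h₁ n) (h₃ n)

omit [∀ K L : CochainComplex C ℤ, HasMapBifunctor K L F (ComplexShape.up ℤ)] in
lemma TermFlat.shift {K : CochainComplex C ℤ} (h : TermFlat F K) (m : ℤ) : TermFlat F (K⟦m⟧) :=
  fun n => (h (n + m)).of_iso F (CochainComplex.shiftFunctorObjXIso K m n (n + m) rfl).symm

omit [∀ K L : CochainComplex C ℤ, HasMapBifunctor K L F (ComplexShape.up ℤ)] in
lemma TermFlat.mappingCone {K L : CochainComplex C ℤ} (φ : K ⟶ L) (hK : TermFlat F K) (hL : TermFlat F L) :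
    TermFlat F (CochainComplex.mappingCone φ) :=
  TermFlat.X₂ F (S := CochainComplex.mappingCone.triangleRotateShortComplex φ)
    (CochainComplex.mappingCone.triangleRotateShortComplexSplitting φ) hL (hK.shift F 1)

omit [∀ K L : CochainComplex C ℤ, HasMapBifunctor K L F (ComplexShape.up ℤ)] in
lemma TermFlat.biprod {K L : CochainComplex C ℤ} (hK : TermFlat F K) (hL : TermFlat F L) : TermFlat F (K ⊞ L) :=
  let S' : ShortComplex (CochainComplex C ℤ) := ShortComplex.mk (biprod.inl : K ⟶ K ⊞ L) biprod.snd biprod.inl_snd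
  let σ' : S'.Splitting :=
    { r := biprod.fst, s := biprod.inr, f_r := biprod.inl_fst, s_g := biprod.inr_snd, id := biprod.total }
  TermFlat.X₂ F (S := S') (fun n => σ'.map (eval C (ComplexShape.up ℤ) n)) hK hL

variable [HasCoproducts.{v} C] [HasColimitsOfShape ℕ C] [HasExactColimitsOfShape ℕ C]
  [∀ ι : Type v, HasExactColimitsOfShape (Discrete ι) C]
  [∀ X, PreservesColimitsOfShape ℕ (F.obj X)]
  [∀ (ι : Type v) X, PreservesColimitsOfShape (Discrete ι) (F.obj X)]
  {κ : Type v} (S : κ → C) [∀ i, (F.flip.obj (S i)).PreservesHomology]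

omit [∀ K L : CochainComplex C ℤ, HasMapBifunctor K L F (ComplexShape.up ℤ)] in
/-- The functorial resolution is termwise flat. -/
lemma termFlat_R (G : CochainComplex C ℤ) : TermFlat F ((Res.R S).obj G) := by
  refine Res.prop_R S G (TermFlat F) (fun Z hZ => TermFlat.of_isZero F hZ) ?_ (fun D hD => TermFlat.colimit F D hD)
  intro ι deg idx L φ hL
  exact TermFlat.mappingCone F φ
    (TermFlat.colimit F _ fun ⟨x⟩ => TermFlat.single F (isFlatObj_of_preservesHomology F (S (idx x))) (deg x)) hL

variable (hS : ∀ {X Y : C} (f g : X ⟶ Y), (∀ i (a : S i ⟶ X), a ≫ f = a ≫ g) → f = g)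

include hS in
/-- Termwise epimorphic termwise flat K-flat resolutions. -/
lemma exists_epi_resolution (G : CochainComplex C ℤ) :
    ∃ (K : CochainComplex C ℤ) (f : K ⟶ G), FlatR F K ∧ TermFlat F K ∧ QuasiIso f ∧ ∀ n, Epi (f.f n) := by
  let I : Type v := Σ (n : ℤ) (i : κ), (S i ⟶ G.X n)
  let cellI : I → CochainComplex C ℤ := fun x => (CochainComplex.singleFunctor C (x.1 + 1)).obj (S x.2.1)
  let W := ∐ cellI
  have hW : FlatR F W := FlatR.colimit F _ fun ⟨x⟩ => flatR_single F (S x.2.1) (x.1 + 1)
  have hW' : TermFlat F W :=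
    TermFlat.colimit F _ fun ⟨x⟩ => TermFlat.single F (isFlatObj_of_preservesHomology F (S x.2.1)) (x.1 + 1)
  let γ : ∀ x : I, CochainComplex.HomComplex.Cochain (cellI x) G (-1) := fun x =>
    CochainComplex.HomComplex.Cochain.fromSingleMk x.2.2 (by omega)
  let α : CochainComplex.HomComplex.Cochain W G (-1) := CochainComplex.HomComplex.Cochain.mk fun p q hpq =>
    (isColimitOfPreserves (eval C (ComplexShape.up ℤ) p) (colimit.isColimit (Discrete.functor cellI))).desc
      ⟨G.X q, Discrete.natTrans fun x => (γ x.as).v p q hpq⟩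
  let β : W ⟶ G := CochainComplex.HomComplex.Cocycle.homOf
    (CochainComplex.HomComplex.Cocycle.mk (CochainComplex.HomComplex.δ (-1) 0 α) 1 (by omega)
      (CochainComplex.HomComplex.δ_δ (-1) 0 1 α))
  let c : CochainComplex.mappingCone (𝟙 W) ⟶ G := CochainComplex.mappingCone.desc (𝟙 W) α β (by simp [β])
  refine ⟨(Res.R S).obj G ⊞ CochainComplex.mappingCone (𝟙 W), biprod.desc ((Res.q S).app G) c,
    FlatR.biprod F (flatR_R F S G) (FlatR.mappingCone F _ hW hW),
    TermFlat.biprod F (termFlat_R F S G) (TermFlat.mappingCone F _ hW' hW'), ?_, fun n => ?_⟩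
  · have h1 : QuasiIso (biprod.inl : (Res.R S).obj G ⟶ (Res.R S).obj G ⊞ CochainComplex.mappingCone (𝟙 W)) := by
      let S' : ShortComplex (CochainComplex C ℤ) :=
        ShortComplex.mk (biprod.inl : (Res.R S).obj G ⟶ (Res.R S).obj G ⊞ CochainComplex.mappingCone (𝟙 W))
          biprod.snd biprod.inl_snd
      let σ' : S'.Splitting :=
        { r := biprod.fst, s := biprod.inr, f_r := biprod.inl_fst, s_g := biprod.inr_snd, id := biprod.total }
      exact quasiIso_f_of_acyclic σ'.shortExact (acyclic_mappingCone_id W)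
    have h2 : QuasiIso ((biprod.inl : (Res.R S).obj G ⟶ (Res.R S).obj G ⊞ CochainComplex.mappingCone (𝟙 W)) ≫
        biprod.desc ((Res.q S).app G) c) := by
      rw [biprod.inl_desc]
      exact Res.quasiIso_q S G hS
    exact quasiIso_of_comp_left (biprod.inl : (Res.R S).obj G ⟶ _) _
  · refine Preadditive.epi_of_cancel_zero _ fun {Y} g hg => hS _ _ fun i a => ?_
    rw [comp_zero]
    let x : I := ⟨n, i, a⟩
    let e : S i ⟶ (CochainComplex.mappingCone (𝟙 W)).X n :=
      (singleObjXSelf (ComplexShape.up ℤ) (n + 1) (S i)).inv ≫ (Sigma.ι cellI x).f (n + 1) ≫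
        (CochainComplex.mappingCone.inl (𝟙 W)).v (n + 1) n (by omega)
    have hfac : (Sigma.ι cellI x).f (n + 1) ≫ α.v (n + 1) n (by omega) = (γ x).v (n + 1) n (by omega) :=
      (isColimitOfPreserves (eval C (ComplexShape.up ℤ) (n + 1)) (colimit.isColimit (Discrete.functor cellI))).fac
        _ ⟨x⟩
    have he : e ≫ c.f n = a := by
      dsimp only [e, c]
      simp only [Category.assoc, CochainComplex.mappingCone.inl_v_desc_f]
      refine (congrArg (fun t => _ ≫ t) hfac).trans ?_
      simp [γ, x]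
      exact Iso.inv_hom_id_assoc _ _
    have h3 : (e ≫ (biprod.inr : _ ⟶ (Res.R S).obj G ⊞ CochainComplex.mappingCone (𝟙 W)).f n) ≫
        (biprod.desc ((Res.q S).app G) c).f n = a := by
      rw [Category.assoc, ← comp_f, biprod.inr_desc, he]
    rw [← h3]
    exact (Category.assoc _ _ _).trans ((congrArg (fun t => _ ≫ t) hg).trans comp_zero)

include hS in
/-- Every map out of a K-flat complex factors through a K-flat resolution of the target. -/
lemma exists_factorization {K L : CochainComplex C ℤ} (a : K ⟶ L) (hK : FlatR F K) :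
    ∃ (N : CochainComplex C ℤ) (b : K ⟶ N) (c : N ⟶ L),
      FlatR F N ∧ QuasiIso c ∧ b ≫ c = a ∧ (TermFlat F K → TermFlat F N) := by
  let qK : (Res.R S).obj K ⟶ K := (Res.q S).app K
  let qL : (Res.R S).obj L ⟶ L := (Res.q S).app L
  let φ : (Res.R S).obj K ⟶ K ⊞ (Res.R S).obj L := biprod.lift qK (-(Res.R S).map a)
  let c : CochainComplex.mappingCone φ ⟶ L := CochainComplex.mappingCone.desc φ 0 (biprod.desc a qL) (by
    have e := (Res.q S).naturality a
    dsimp at e
    simp [φ, qK, qL, biprod.lift_desc, e])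
  refine ⟨CochainComplex.mappingCone φ, biprod.inl ≫ CochainComplex.mappingCone.inr φ, c,
    FlatR.mappingCone F φ (flatR_R F S K) (FlatR.biprod F hK (flatR_R F S L)), ?_, by simp [c],
    fun hK' => TermFlat.mappingCone F φ (termFlat_R F S K) (TermFlat.biprod F hK' (termFlat_R F S L))⟩
  have hcomm : φ ≫ biprod.fst = 𝟙 _ ≫ qK := by simp [φ]
  let g := CochainComplex.mappingCone.map φ qK (𝟙 _) biprod.fst hcomm
  let f : (Res.R S).obj L ⟶ CochainComplex.mappingCone φ := biprod.inr ≫ CochainComplex.mappingCone.inr φ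
  have hfg : f ≫ g = 0 := by simp [f, g, CochainComplex.mappingCone.map]
  let T : ShortComplex (CochainComplex C ℤ) := ShortComplex.mk f g hfg
  have bip : ∀ n, (biprod.fst : K ⊞ (Res.R S).obj L ⟶ K).f n ≫ (biprod.inl : K ⟶ K ⊞ (Res.R S).obj L).f n +
      (biprod.snd : K ⊞ (Res.R S).obj L ⟶ _).f n ≫ (biprod.inr : (Res.R S).obj L ⟶ K ⊞ (Res.R S).obj L).f n =
        𝟙 _ := fun n => by
    rw [← comp_f, ← comp_f, ← add_f_apply, biprod.total, id_f]
  let σ : ∀ n, (T.map (eval C (ComplexShape.up ℤ) n)).Splitting := fun n =>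
    { r := (CochainComplex.mappingCone.snd φ).v n n (add_zero n) ≫ (biprod.snd : K ⊞ (Res.R S).obj L ⟶ _).f n
      s := (CochainComplex.mappingCone.fst qK).1.v n (n + 1) rfl ≫ (CochainComplex.mappingCone.inl φ).v (n + 1) n (by omega) +
        (CochainComplex.mappingCone.snd qK).v n n (add_zero n) ≫ (biprod.inl : K ⟶ K ⊞ (Res.R S).obj L).f n ≫
          (CochainComplex.mappingCone.inr φ).f n
      f_r := by
        change ((biprod.inr : (Res.R S).obj L ⟶ K ⊞ (Res.R S).obj L) ≫ CochainComplex.mappingCone.inr φ).f n ≫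
          (CochainComplex.mappingCone.snd φ).v n n (add_zero n) ≫ (biprod.snd : K ⊞ (Res.R S).obj L ⟶ _).f n =
            𝟙 (((Res.R S).obj L).X n)
        rw [comp_f, Category.assoc, CochainComplex.mappingCone.inr_f_snd_v_assoc, ← comp_f, biprod.inr_snd, id_f]
      s_g := by
        change (_ + _) ≫ g.f n = 𝟙 ((CochainComplex.mappingCone qK).X n)
        rw [CochainComplex.mappingCone.ext_from_iff qK (n + 1) n (by omega)]
        refine ⟨?_, ?_⟩ <;>
          simp [g, CochainComplex.mappingCone.map, ← comp_f_assoc]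
      id := by
        change ((CochainComplex.mappingCone.snd φ).v n n (add_zero n) ≫ (biprod.snd : K ⊞ (Res.R S).obj L ⟶ _).f n :
            (CochainComplex.mappingCone φ).X n ⟶ ((Res.R S).obj L).X n) ≫ f.f n +
          g.f n ≫ ((CochainComplex.mappingCone.fst qK).1.v n (n + 1) rfl ≫ (CochainComplex.mappingCone.inl φ).v (n + 1) n (by omega) +
            (CochainComplex.mappingCone.snd qK).v n n (add_zero n) ≫ (biprod.inl : K ⟶ K ⊞ (Res.R S).obj L).f n ≫
              (CochainComplex.mappingCone.inr φ).f n) = 𝟙 ((CochainComplex.mappingCone φ).X n)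
        rw [CochainComplex.mappingCone.ext_from_iff φ (n + 1) n (by omega)]
        refine ⟨?_, ?_⟩
        · simp [f, g, CochainComplex.mappingCone.map]
        · simp [f, g, CochainComplex.mappingCone.map]
          rw [← Category.assoc, ← Category.assoc, ← Preadditive.add_comp, add_comm, bip n, Category.id_comp] }
  have hqK : QuasiIso qK := Res.quasiIso_q S K hS
  have hac : (CochainComplex.mappingCone qK).Acyclic := acyclic_mappingCone_of_quasiIso qK
  have h1 : QuasiIso f := quasiIso_f_of_acyclic (shortExact_of_splitting T σ) hac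
  have h2 : QuasiIso (f ≫ c) := by
    have : f ≫ c = qL := by simp [f, c]
    rw [this]
    exact Res.quasiIso_q S L hS
  exact quasiIso_of_comp_left f c

end Termwise

end Groth.Agent.KFlat

namespace Groth.Agent.KFlat

variable {C : Type u} [Category.{v} C] [Abelian C] (F : C ⥤ C ⥤ C) [F.Additive] [∀ X, (F.obj X).Additive]
  [∀ K L : CochainComplex C ℤ, HasMapBifunctor K L F (ComplexShape.up ℤ)]

open CategoryTheory.Pretriangulated

/-- K-flatness is invariant under isomorphism in the homotopy category. -/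
lemma FlatR.of_homotopyCategory_iso {K L : CochainComplex C ℤ}
    (e : (HomotopyCategory.quotient C (ComplexShape.up ℤ)).obj K ≅ (HomotopyCategory.quotient C (ComplexShape.up ℤ)).obj L)
    (hK : FlatR F K) : FlatR F L :=
  FlatR.of_homotopyEquiv F (HomotopyCategory.homotopyEquivOfIso e) hK

lemma FlatR.shift_as {X : HomotopyCategory C (ComplexShape.up ℤ)} (h : FlatR F X.as) (n : ℤ) :
    FlatR F (X⟦n⟧).as :=
  FlatR.of_homotopyCategory_iso F
    (((HomotopyCategory.quotient C (ComplexShape.up ℤ)).commShiftIso n).app X.as) (h.shift F n)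

/-- In a distinguished triangle whose first two members are K-flat so is the third. -/
lemma FlatR.obj₃ {T : Triangle (HomotopyCategory C (ComplexShape.up ℤ))} (hT : T ∈ distTriang _)
    (h₁ : FlatR F T.obj₁.as) (h₂ : FlatR F T.obj₂.as) : FlatR F T.obj₃.as := by
  obtain ⟨X, Y, f, ⟨e⟩⟩ := hT
  exact FlatR.of_homotopyCategory_iso F (Triangle.π₃.mapIso e).symm
    (FlatR.mappingCone F f (FlatR.of_homotopyCategory_iso F (Triangle.π₁.mapIso e) h₁)
      (FlatR.of_homotopyCategory_iso F (Triangle.π₂.mapIso e) h₂))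

/-- In a distinguished triangle whose first and third members are K-flat so is the second. -/
lemma FlatR.obj₂ {T : Triangle (HomotopyCategory C (ComplexShape.up ℤ))} (hT : T ∈ distTriang _)
    (h₁ : FlatR F T.obj₁.as) (h₃ : FlatR F T.obj₃.as) : FlatR F T.obj₂.as :=
  FlatR.obj₃ F (inv_rot_of_distTriang _ hT) (h₃.shift_as F (-1)) h₁

/-- In a distinguished triangle whose last two members are K-flat so is the first. -/
lemma FlatR.obj₁ {T : Triangle (HomotopyCategory C (ComplexShape.up ℤ))} (hT : T ∈ distTriang _)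
    (h₂ : FlatR F T.obj₂.as) (h₃ : FlatR F T.obj₃.as) : FlatR F T.obj₁.as :=
  FlatR.of_homotopyCategory_iso F ((shiftEquiv (HomotopyCategory C (ComplexShape.up ℤ)) (1 : ℤ)).unitIso.app T.obj₁).symm
    ((FlatR.obj₃ F (rot_of_distTriang _ hT) h₂ h₃).shift_as F (-1))

end Groth.Agent.KFlat

namespace Groth.Agent.KFlat

variable {C : Type u} [Category.{v} C] [Abelian C] (F : C ⥤ C ⥤ C) [F.Additive] [∀ X, (F.obj X).Additive]
  [∀ K L : CochainComplex C ℤ, HasMapBifunctor K L F (ComplexShape.up ℤ)]

/-- The index of the summands of the tensor product in degree `n`. -/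
abbrev Bideg (n : ℤ) : Type := { i : ℤ × ℤ // i.1 + i.2 = n }

/-- The summands of `L ⊗ K` in degree `n`. -/
noncomputable abbrev summands (L K : CochainComplex C ℤ) (n : ℤ) : Discrete (Bideg n) ⥤ C :=
  Discrete.functor fun i : Bideg n => (F.obj (L.X i.1.1)).obj (K.X i.1.2)

/-- The cocone exhibiting a degree of the tensor product as a coproduct. -/
noncomputable def summandsCocone (L K : CochainComplex C ℤ) (n : ℤ) : Cocone (summands F L K n) where
  pt := (mapBifunctor L K F (ComplexShape.up ℤ)).X n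
  ι := Discrete.natTrans fun i => ιMapBifunctor L K F (ComplexShape.up ℤ) i.as.1.1 i.as.1.2 n i.as.2

/-- A degree of the tensor product is a coproduct. -/
noncomputable def isColimitSummands (L K : CochainComplex C ℤ) (n : ℤ) : IsColimit (summandsCocone F L K n) where
  desc s := mapBifunctorDesc fun p q h => s.ι.app ⟨⟨(p, q), h⟩⟩
  fac s j := ι_mapBifunctorDesc _ _ _ _
  uniq s m hm := mapBifunctor.hom_ext fun p q h => by
    rw [ι_mapBifunctorDesc]
    exact hm ⟨⟨(p, q), h⟩⟩

/-- Tensoring preserves short exact sequences of complexes which it preserves term by term. -/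
lemma shortExact_tensR_of_app
    [∀ n : ℤ, HasColimitsOfShape (Discrete (Bideg n)) C] [∀ n : ℤ, HasExactColimitsOfShape (Discrete (Bideg n)) C]
    (L : CochainComplex C ℤ) {S : ShortComplex (CochainComplex C ℤ)}
    (h : ∀ p q, ((S.map (eval C (ComplexShape.up ℤ) q)).map (F.obj (L.X p))).ShortExact) :
    (S.map (tensR F L)).ShortExact := by
  refine shortExact_of_degreewise_shortExact _ fun n => ?_
  let τ : ∀ {K K' : CochainComplex C ℤ}, (K ⟶ K') → (summands F L K n ⟶ summands F L K' n) := fun φ =>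
    Discrete.natTrans fun i => (F.obj (L.X i.as.1.1)).map (φ.f i.as.1.2)
  have hτ : ∀ {K K' : CochainComplex C ℤ} (φ : K ⟶ K') (i : Discrete (Bideg n)),
      (summandsCocone F L K n).ι.app i ≫ ((tensR F L).map φ).f n = (τ φ).app i ≫ (summandsCocone F L K' n).ι.app i :=
    fun φ i => (congrArg (fun t => _ ≫ t) (mapBifunctorMap_f_eq_degR F L φ n)).trans (ι_mapBifunctorDesc _ _ _ _)
  let S' : ShortComplex (Discrete (Bideg n) ⥤ C) := ShortComplex.mk (τ S.f) (τ S.g) (by
    ext i
    exact ((S.map (eval C (ComplexShape.up ℤ) i.as.1.2)).map (F.obj (L.X i.as.1.1))).zero)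
  have hS' : S'.Exact := exact_of_app S' fun i => (h i.as.1.1 i.as.1.2).exact
  have : Mono S'.f := by
    have : ∀ i, Mono (S'.f.app i) := fun i => (h i.as.1.1 i.as.1.2).mono_f
    exact NatTrans.mono_of_mono_app _
  have : ∀ i, Epi ((τ S.g).app i) := fun i => (h i.as.1.1 i.as.1.2).epi_g
  exact
    { exact := Limits.colim.exact_mapShortComplex (S := S') hS' (isColimitSummands F L S.X₁ n)
        (isColimitSummands F L S.X₂ n) (isColimitSummands F L S.X₃ n) (((tensR F L).map S.f).f n)
        (((tensR F L).map S.g).f n) (hτ S.f) (hτ S.g)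
      mono_f := colim.map_mono' S'.f (isColimitSummands F L S.X₁ n) (isColimitSummands F L S.X₂ n) _ (hτ S.f)
      epi_g := colim.map_epi' (τ S.g) (summandsCocone F L S.X₂ n) (isColimitSummands F L S.X₃ n) _ (hτ S.g) }

end Groth.Agent.KFlat
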