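import Groth.Agent.KFlat.Ring
import Groth.Agent.KFlat.Flat
import Groth.Agent.KFlat.Bounded
import Groth.Prelude.Def_DRing2

/-!
Termwise flat K-flat complexes of modules over a commutative ring.
-/

universe u

open CategoryTheory CategoryTheory.Limits MonoidalCategory HomologicalComplex

namespace Groth.Agent.KFlat

variable (A : Type u) [CommRing A]

lemma isFlatObj_iff (P : ModuleCat.{u} A) :
    IsFlatObj (curriedTensor (ModuleCat.{u} A)) P ↔ Module.Flat A P :=
  (Module.Flat.iff_rTensor_preserves_shortComplex_exact P).symm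

lemma termFlat_iff (K : DRing.Cx A) :
    TermFlat (curriedTensor (ModuleCat.{u} A)) K ↔ DRing.TermwiseFlat K :=
  forall_congr' fun n => isFlatObj_iff A (K.X n)

lemma exists_surjective_resolution (M : DRing.Cx A) :
    ∃ (K : DRing.Cx A) (f : K ⟶ M), DRing.IsKFlat A K ∧ DRing.TermwiseFlat K ∧ QuasiIso f ∧
      ∀ i : ℤ, Function.Surjective (f.f i) := by
  obtain ⟨K, f, h1, h2, h3, h4⟩ := exists_epi_resolution (curriedTensor (ModuleCat.{u} A))
    (fun _ : PUnit.{u + 1} => ModuleCat.of A A) (self_separates A) M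
  exact ⟨K, f, h1, (termFlat_iff A K).1 h2, h3, fun i => (ModuleCat.epi_iff_surjective _).1 (h4 i)⟩

end Groth.Agent.KFlat

namespace Groth.Agent.KFlat

variable {A : Type u} [CommRing A]

lemma isKFlat_of_boundedAbove {P : DRing.Cx A} (b : ℤ) (hb : DRing.VanishesAbove P b)
    (hP : DRing.TermwiseFlat P) : DRing.IsKFlat A P :=
  flatR_of_boundedAbove P (curriedTensor (ModuleCat.{u} A)) b hb ((termFlat_iff A P).2 hP)

end Groth.Agent.KFlat

namespace Groth.Agent.KFlat

open scoped TensorProduct

lemma lTensor_injective_of_presentation {A : Type u} [CommRing A] {K₁ K₂ K₃ N P M : Type u}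
    [AddCommGroup K₁] [Module A K₁] [AddCommGroup K₂] [Module A K₂] [AddCommGroup K₃] [Module A K₃]
    [AddCommGroup N] [Module A N] [AddCommGroup P] [Module A P] [Module.Flat A P]
    [AddCommGroup M] [Module A M] [Module.Flat A K₃] (f : K₁ →ₗ[A] K₂) (g : K₂ →ₗ[A] K₃)
    (hf : Function.Injective f) (hg : Function.Surjective g) (hfg : Function.Exact f g)
    (ι : N →ₗ[A] P) (π : P →ₗ[A] M) (hι : Function.Injective ι) (hπ : Function.Surjective π)
    (hιπ : Function.Exact ι π) : Function.Injective (f.lTensor M) := by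
  rw [injective_iff_map_eq_zero]
  intro x hx
  obtain ⟨y, rfl⟩ := LinearMap.rTensor_surjective K₁ hπ x
  have h1 : π.rTensor K₂ (f.lTensor _ y) = 0 := by
    rw [← LinearMap.comp_apply, LinearMap.rTensor_comp_lTensor, ← LinearMap.lTensor_comp_rTensor,
      LinearMap.comp_apply, hx]
  obtain ⟨z, hz⟩ := (rTensor_exact K₂ hιπ hπ _).1 h1
  have h2 : ι.rTensor K₃ (g.lTensor _ z) = 0 := by
    rw [← LinearMap.comp_apply, LinearMap.rTensor_comp_lTensor, ← LinearMap.lTensor_comp_rTensor,
      LinearMap.comp_apply, hz, ← LinearMap.comp_apply, ← LinearMap.lTensor_comp, hfg.linearMap_comp_eq_zero]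
    simp
  have h3 : g.lTensor N z = 0 :=
    (injective_iff_map_eq_zero _).1 (Module.Flat.rTensor_preserves_injective_linearMap ι hι) _ h2
  obtain ⟨v, hv⟩ := (lTensor_exact N hfg hg z).1 h3
  have h4 : y = ι.rTensor K₁ v := Module.Flat.lTensor_preserves_injective_linearMap f hf (by
    rw [← hz, ← hv, ← LinearMap.comp_apply, ← LinearMap.comp_apply (f.lTensor _), LinearMap.rTensor_comp_lTensor,
      LinearMap.lTensor_comp_rTensor])
  rw [h4, ← LinearMap.comp_apply, ← LinearMap.rTensor_comp, hιπ.linearMap_comp_eq_zero]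
  simp

/-- A short exact sequence with flat quotient stays short exact after tensoring with anything. -/
lemma lTensor_injective_of_flat_quotient {A : Type u} [CommRing A] {K₁ K₂ K₃ : Type u} (M : Type u)
    [AddCommGroup K₁] [Module A K₁] [AddCommGroup K₂] [Module A K₂] [AddCommGroup K₃] [Module A K₃]
    [AddCommGroup M] [Module A M] [Module.Flat A K₃] (f : K₁ →ₗ[A] K₂) (g : K₂ →ₗ[A] K₃)
    (hf : Function.Injective f) (hg : Function.Surjective g) (hfg : Function.Exact f g) :
    Function.Injective (f.lTensor M) :=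
  lTensor_injective_of_presentation (N := LinearMap.ker (Finsupp.linearCombination A (id : M → M))) (P := M →₀ A)
    f g hf hg hfg (LinearMap.ker (Finsupp.linearCombination A (id : M → M))).subtype
    (Finsupp.linearCombination A (id : M → M)) (Submodule.injective_subtype _)
    (fun m => ⟨Finsupp.single m 1, by simp⟩) (LinearMap.exact_subtype_ker_map _)

variable {A : Type u} [CommRing A]

instance hasExactColimitsOfShape_bideg (n : ℤ) :
    HasExactColimitsOfShape (Discrete (Bideg n)) (ModuleCat.{u} A) :=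
  HasExactColimitsOfShape.of_domain_equivalence (C := ModuleCat.{u} A)
    (Discrete.equivalence (Equiv.ulift.{u} (α := Bideg n)))

lemma shortExact_tensR_of_flat (L : DRing.Cx A) {S : ShortComplex (DRing.Cx A)} (hS : S.ShortExact)
    (h3 : DRing.TermwiseFlat S.X₃) : (S.map (tensR (curriedTensor (ModuleCat.{u} A)) L)).ShortExact := by
  refine shortExact_tensR_of_app _ L fun p q => ?_
  have hq : (S.map (eval (ModuleCat.{u} A) (ComplexShape.up ℤ) q)).ShortExact := hS.map_of_exact _
  have : Module.Flat A (S.map (eval (ModuleCat.{u} A) (ComplexShape.up ℤ) q)).X₃ := h3 q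
  have hf := (ModuleCat.mono_iff_injective _).1 hq.mono_f
  have hg := (ModuleCat.epi_iff_surjective _).1 hq.epi_g
  have hfg := (CategoryTheory.ShortComplex.ShortExact.moduleCat_exact_iff_function_exact _).1 hq.exact
  exact
    { exact := (CategoryTheory.ShortComplex.ShortExact.moduleCat_exact_iff_function_exact _).2 (lTensor_exact _ hfg hg)
      mono_f := (ModuleCat.mono_iff_injective _).2 (lTensor_injective_of_flat_quotient _ _ _ hf hg hfg)
      epi_g := (ModuleCat.epi_iff_surjective _).2 (LinearMap.lTensor_surjective _ hg) }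

/-- Two out of three for short exact sequences of complexes with flat quotient terms. -/
lemma two_of_three {S : ShortComplex (DRing.Cx A)} (hS : S.ShortExact) (h3 : DRing.TermwiseFlat S.X₃) :
    (DRing.IsKFlat A S.X₁ → DRing.IsKFlat A S.X₂ → DRing.IsKFlat A S.X₃) ∧
    (DRing.IsKFlat A S.X₁ → DRing.IsKFlat A S.X₃ → DRing.IsKFlat A S.X₂) ∧
    (DRing.IsKFlat A S.X₂ → DRing.IsKFlat A S.X₃ → DRing.IsKFlat A S.X₁) := by
  refine ⟨fun h₁ h₂ L hL i => ?_, fun h₁ h₃ L hL i => ?_, fun h₂ h₃ L hL i => ?_⟩
  · exact ((shortExact_tensR_of_flat L hS h3).homology_exact₃ i (i + 1) (by simp)).isZero_of_both_zeros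
      ((h₂ L hL _).eq_of_src _ _) ((h₁ L hL _).eq_of_tgt _ _)
  · exact ((shortExact_tensR_of_flat L hS h3).homology_exact₂ i).isZero_of_both_zeros
      ((h₁ L hL _).eq_of_src _ _) ((h₃ L hL _).eq_of_tgt _ _)
  · exact ((shortExact_tensR_of_flat L hS h3).homology_exact₁ (i - 1) i (by simp)).isZero_of_both_zeros
      ((h₃ L hL _).eq_of_src _ _) ((h₂ L hL _).eq_of_tgt _ _)

end Groth.Agent.KFlat
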