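import Groth.Agent.KFlat.Bounded
import Groth.Agent.KFlat.Ring

/-!
A complex of modules with `K ⊗ P` acyclic for every module `P` has `K ⊗ L` acyclic for every complex `L`
(in particular it is K-flat).
-/

set_option maxHeartbeats 800000
set_option linter.unusedVariables false

universe v u

open CategoryTheory CategoryTheory.Limits HomologicalComplex

namespace Groth.Agent.KFlatAll

open Groth.Agent.KFlat

variable {C : Type u} [Category.{v} C] [Abelian C] (K : CochainComplex C ℤ)

namespace Canon

/-- The map cutting out the canonical truncation: identity above `m`, the differential at `m`. -/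
noncomputable def cut (m n : ℤ) : K.X n ⟶ K.X n ⊞ K.X (n + 1) :=
  biprod.lift (if m < n then 𝟙 _ else 0) (if n = m then K.d n (n + 1) else 0)

lemma cut_of_lt {m n : ℤ} (h : n < m) : cut K m n = 0 := by
  unfold cut
  rw [if_neg (not_lt.2 h.le), if_neg h.ne]
  ext <;> simp

lemma isZero_kernel {m n : ℤ} (h : m < n) : IsZero (kernel (cut K m n)) := by
  have hfst : cut K m n ≫ biprod.fst = 𝟙 (K.X n) := by simp [cut, h]
  have hι : kernel.ι (cut K m n) = 0 := by
    rw [← Category.comp_id (kernel.ι (cut K m n)), ← hfst, ← Category.assoc, kernel.condition]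
    simp
  exact (IsZero.iff_id_eq_zero _).2 ((cancel_mono (kernel.ι (cut K m n))).1 (by rw [Category.id_comp, zero_comp, hι]))

lemma kernel_d {m n j : ℤ} (hj : n + 1 = j) (h : n = m) : kernel.ι (cut K m n) ≫ K.d n j = 0 := by
  subst hj
  have hsnd : cut K m n ≫ biprod.snd = K.d n (n + 1) := by simp [cut, h]
  rw [← hsnd, ← Category.assoc, kernel.condition]
  simp

/-- The subcomplex `τ_{≤ m}`. -/
noncomputable def trunc (m : ℤ) : CochainComplex C ℤ where
  X n := kernel (cut K m n)
  d i j := kernel.lift _ (kernel.ι (cut K m i) ≫ K.d i j) (by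
    by_cases hr : (ComplexShape.up ℤ).Rel i j
    · have h1 : i + 1 = j := hr
      rcases lt_trichotomy i m with hi | hi | hi
      · rcases eq_or_lt_of_le (show j ≤ m by omega) with hjm | hjm
        · have h2 : cut K m j = K.d j (j + 1) ≫ biprod.inr := by
            unfold cut
            rw [if_neg (not_lt.2 hjm.le), if_pos hjm]
            ext <;> simp
          rw [h2, Category.assoc, ← Category.assoc (K.d i j), K.d_comp_d, zero_comp, comp_zero]
        · rw [cut_of_lt K hjm, comp_zero]
      · rw [kernel_d K h1 hi, zero_comp]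
      · rw [(isZero_kernel K hi).eq_of_src (kernel.ι _) 0]
        simp
    · simp [K.shape _ _ hr])
  shape i j h := by ext; simp [K.shape _ _ h]
  d_comp_d' i j k _ _ := by ext; simp

/-- The inclusion. -/
noncomputable def incl (m : ℤ) : trunc K m ⟶ K where
  f n := kernel.ι (cut K m n)
  comm' i j _ := (kernel.lift_ι _ _ _).symm

lemma isZero_X {m n : ℤ} (h : m < n) : IsZero ((trunc K m).X n) := isZero_kernel K h

instance mono_incl (m n : ℤ) : Mono ((incl K m).f n) := inferInstanceAs (Mono (kernel.ι (cut K m n)))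

lemma isIso_ι {m n : ℤ} (h : n < m) : IsIso ((incl K m).f n) :=
  show IsIso (kernel.ι (cut K m n)) from
    ⟨kernel.lift _ (𝟙 _) (by rw [cut_of_lt K h, comp_zero]), by ext; simp, by simp⟩

/-- The inclusions between the subcomplexes. -/
noncomputable def step {m m' : ℤ} (h : m ≤ m') : trunc K m ⟶ trunc K m' where
  f n := kernel.lift _ ((incl K m).f n) (by
    by_cases hn : n < m'
    · rw [cut_of_lt K hn, comp_zero]
    · by_cases hnm : m < n
      · rw [(isZero_X K hnm).eq_of_src ((incl K m).f n) 0, zero_comp]
      · obtain rfl : m = m' := by omega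
        exact kernel.condition _)
  comm' i j _ := by
    refine (cancel_mono ((incl K m').f j)).1 ?_
    refine (Category.assoc _ _ _).trans (((congrArg (fun t => _ ≫ t) ((incl K m').comm i j).symm).trans ?_).trans
      (Category.assoc _ _ _).symm)
    refine ((Category.assoc _ _ _).symm.trans (congrArg (fun t => t ≫ K.d i j) (kernel.lift_ι _ _ _))).trans
      (((incl K m).comm i j).trans (congrArg (fun t => (trunc K m).d i j ≫ t) (kernel.lift_ι _ _ _).symm))

@[reassoc (attr := simp)]
lemma step_incl {m m' : ℤ} (h : m ≤ m') : step K h ≫ incl K m' = incl K m := by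
  ext n
  exact kernel.lift_ι _ _ _

@[reassoc (attr := simp)]
lemma step_incl_f {m m' : ℤ} (h : m ≤ m') (n : ℤ) : (step K h).f n ≫ (incl K m').f n = (incl K m).f n :=
  kernel.lift_ι _ _ _

lemma step_refl (m : ℤ) : step K (le_refl m) = 𝟙 _ := by
  ext n
  rw [← cancel_mono ((incl K m).f n)]
  simp

lemma step_trans {m m' m'' : ℤ} (h : m ≤ m') (h' : m' ≤ m'') : step K h ≫ step K h' = step K (h.trans h') := by
  ext n
  rw [← cancel_mono ((incl K m'').f n)]
  simp

/-- The exhausting sequence of subcomplexes. -/
noncomputable def diag (b : ℤ) : ℕ ⥤ CochainComplex C ℤ where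
  obj k := trunc K (b + k)
  map {j k} h := step K (by have := leOfHom h; omega)
  map_id k := step_refl K _
  map_comp f g := (step_trans K _ _).symm

/-- The exhausting cocone. -/
noncomputable def cocone (b : ℤ) : Cocone (diag K b) where
  pt := K
  ι := { app := fun k => incl K _, naturality := fun j k h => by simp [diag] }

/-- A complex is the union of its brutal truncations. -/
noncomputable def isColimit (b : ℤ) : IsColimit (cocone K b) := isColimitOfEval _ _ fun n => by
  let k₀ : ℕ := (n + 1 - b).toNat
  have hk : ∀ k : ℕ, k₀ ≤ k → IsIso (((cocone K b).ι.app k).f n) := fun k h => isIso_ι K (by omega)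
  let e : ∀ k : ℕ, k₀ ≤ k → (((diag K b).obj k).X n ≅ K.X n) := fun k h =>
    @asIso _ _ _ _ (((cocone K b).ι.app k).f n) (hk k h)
  refine { desc := fun s => (e k₀ le_rfl).inv ≫ s.ι.app k₀
           fac := fun s j => ?_
           uniq := fun s m hm => ?_ }
  · let k := max j k₀
    let a := (diag K b).map (homOfLE (le_max_left j k₀))
    let a₀ := (diag K b).map (homOfLE (le_max_right j k₀))
    have e3 : a.f n ≫ (e k (le_max_right _ _)).hom = ((cocone K b).ι.app j).f n := step_incl_f K (by omega) n
    have e4 : a₀.f n ≫ (e k (le_max_right _ _)).hom = (e k₀ le_rfl).hom := step_incl_f K (by omega) n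
    have e5 : (e k₀ le_rfl).inv ≫ a₀.f n = (e k (le_max_right _ _)).inv :=
      ((e k₀ le_rfl).inv_comp_eq).2 ((Iso.eq_comp_inv (e k (le_max_right _ _))).2 e4)
    have e1 : a.f n ≫ s.ι.app k = s.ι.app j := s.w (homOfLE (le_max_left j k₀))
    have e2 : a₀.f n ≫ s.ι.app k = s.ι.app k₀ := s.w (homOfLE (le_max_right j k₀))
    have h6 : (e k₀ le_rfl).inv ≫ s.ι.app k₀ = (e k (le_max_right _ _)).inv ≫ s.ι.app k :=
      (congrArg (fun t => (e k₀ le_rfl).inv ≫ t) e2.symm).trans
        ((Category.assoc _ _ _).symm.trans (congrArg (fun t => t ≫ s.ι.app k) e5))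
    exact (congrArg₂ (fun t t' => t ≫ t') e3.symm h6).trans
      ((Category.assoc _ _ _).trans ((congrArg (fun t => a.f n ≫ t) (Iso.hom_inv_id_assoc _ _)).trans e1))
  · exact (Iso.eq_inv_comp (e k₀ le_rfl)).2 (hm k₀)

end Canon

section Acyclic

variable (F : C ⥤ C ⥤ C) [F.Additive] [∀ X, (F.obj X).Additive]
  [∀ K L : CochainComplex C ℤ, HasMapBifunctor K L F (ComplexShape.up ℤ)]
  [HasColimitsOfShape ℕ C] [HasExactColimitsOfShape ℕ C] [∀ X, PreservesColimitsOfShape ℕ (F.obj X)]
  (M : CochainComplex C ℤ)

/-- `M ⊗ L` is acyclic. -/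
def Acy (L : CochainComplex C ℤ) : Prop := ∀ i, IsZero (((tensR F M).obj L).homology i)

variable {K}

lemma acy_of_iso {K' : CochainComplex C ℤ} (e : K ≅ K') (h : Acy F M K) : Acy F M K' := fun i =>
  (h i).of_iso ((homologyFunctor C (ComplexShape.up ℤ) i).mapIso ((tensR F M).mapIso e.symm))

lemma acy_of_isZero (h : IsZero K) : Acy F M K := fun i =>
  (homologyFunctor C (ComplexShape.up ℤ) i).map_isZero ((tensR F M).map_isZero h)

lemma acy_colimit (D : ℕ ⥤ CochainComplex C ℤ) {c : Cocone D} (hc : IsColimit c) (hD : ∀ j, Acy F M (D.obj j)) :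
    Acy F M c.pt := fun i => by
  have := preservesColimitsOfShape_tensR F (J := ℕ) M
  exact (exactAt_of_isColimit (D ⋙ tensR F M) _ (isColimitOfPreserves (tensR F M) hc) i
    fun j => (exactAt_iff_isZero_homology _ _).2 (hD j i)).isZero_homology

lemma acy_shift (h : Acy F M K) (n : ℤ) : Acy F M (K⟦n⟧) := fun i =>
  ((h (n + i)).of_iso
    ((((homologyFunctor C (ComplexShape.up ℤ) 0).shiftIso n i (n + i) rfl).app ((tensR F M).obj K)))).of_iso
    ((homologyFunctor C (ComplexShape.up ℤ) i).mapIso (CochainComplex.mapBifunctorShift₂Iso M K F n))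

lemma acy_single (P : C) (h : ∀ i, IsZero ((((F.flip.obj P).mapHomologicalComplex (ComplexShape.up ℤ)).obj M).homology i))
    (n : ℤ) : Acy F M ((CochainComplex.singleFunctor C n).obj P) := by
  have h0 : Acy F M ((CochainComplex.singleFunctor C 0).obj P) := fun i =>
    (h i).of_iso ((homologyFunctor C (ComplexShape.up ℤ) i).mapIso (singleIso F M P).symm)
  have h1 : Acy F M (((CochainComplex.singleFunctor C 0).obj P)⟦-n⟧) := acy_shift F M h0 (-n)
  exact acy_of_iso F M (((CochainComplex.singleFunctors C).shiftIso (-n) n 0 (by omega)).app P) h1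

variable (K)

open Stupid in
set_option maxHeartbeats 3000000 in
lemma acy_boundedAbove (hsingle : ∀ (P : C) (n : ℤ), Acy F M ((CochainComplex.singleFunctor C n).obj P))
    (b : ℤ) (hb : ∀ n, b < n → IsZero (K.X n)) : Acy F M K := by
  have key : ∀ k : ℕ, Acy F M (trunc K (b + 1 - k)) := by
    intro k
    induction k with
    | zero =>
      refine acy_of_isZero F M ((IsZero.iff_id_eq_zero _).2 ?_)
      ext n : 1
      refine IsZero.eq_of_src ?_ _ _
      by_cases hn : b + 1 - (0 : ℕ) ≤ n
      · have := isIso_ι K hn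
        exact (hb n (by omega)).of_iso (asIso ((incl K _).f n))
      · exact isZero_X K (by omega)
    | succ k ih =>
      let m : ℤ := b + 1 - k
      let m' : ℤ := b + 1 - (k + 1 : ℕ)
      have hm : m' + 1 = m := by simp only [m, m']; omega
      let f := step K (show m' ≤ m by omega)
      let S : ShortComplex (CochainComplex C ℤ) := ShortComplex.mk f (cokernel.π f) (cokernel.condition f)
      have hSe : S.Exact := ShortComplex.exact_of_g_is_cokernel S (cokernelIsCokernel f)
      let r : ∀ n, (trunc K m').X n ⟶ (trunc K m).X n := fun n =>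
        if h : m ≤ n then (haveI := isIso_ι K h; (incl K m').f n ≫ inv ((incl K m).f n)) else 0
      have hr : ∀ n, f.f n ≫ r n = 𝟙 _ := fun n => by
        by_cases h : m ≤ n
        · have := isIso_ι K h
          simp [r, h, f]
        · exact (isZero_X K (show n < m by omega)).eq_of_src _ _
      let σ : ∀ n, (S.map (eval C (ComplexShape.up ℤ) n)).Splitting := fun n =>
        ShortComplex.Splitting.ofExactOfRetraction _ (hSe.map (eval C (ComplexShape.up ℤ) n)) (r n) (hr n)
          (inferInstanceAs (Epi ((eval C (ComplexShape.up ℤ) n).map (cokernel.π f))))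
      have hz : ∀ n, n ≠ m' → IsZero (S.X₃.X n) := fun n hn => by
        refine (IsZero.iff_id_eq_zero _).2 ((σ n).s_g.symm.trans ?_)
        suffices (S.map (eval C (ComplexShape.up ℤ) n)).g = 0 by rw [this, comp_zero]; rfl
        by_cases h : m ≤ n
        · have := isIso_ι K h
          have := isIso_ι K (show m' ≤ n by omega)
          have : IsIso (f.f n) :=
            ⟨(incl K m').f n ≫ inv ((incl K m).f n), by simp [f],
              by rw [← cancel_mono ((incl K m').f n)]; simp [f]⟩
          exact (cancel_epi (f.f n)).1 ((S.map (eval C (ComplexShape.up ℤ) n)).zero.trans comp_zero.symm)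
        · exact (isZero_X K (show n < m' by omega)).eq_of_src _ _
      have h3 : Acy F M S.X₃ := acy_of_iso F M (isoSingle S.X₃ m' hz).symm (hsingle _ m')
      exact (isZero_homology_iff (K := (tensR F M).obj S.X₂)).2 ((shortExact_tensR F S σ M).acyclic_X₂
        ((isZero_homology_iff (K := (tensR F M).obj S.X₁)).1 ih)
        ((isZero_homology_iff (K := (tensR F M).obj S.X₃)).1 h3))
  exact acy_colimit (c := Stupid.cocone K (b + 1)) F M (Stupid.diag K (b + 1)) (Stupid.isColimit K (b + 1)) key

lemma acy_all (hsingle : ∀ (P : C) (n : ℤ), Acy F M ((CochainComplex.singleFunctor C n).obj P)) : Acy F M K :=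
  acy_colimit (c := Canon.cocone K 0) F M (Canon.diag K 0) (Canon.isColimit K 0) fun j =>
    acy_boundedAbove (Canon.trunc K (0 + j)) F M hsingle (0 + j) fun _ hn => Canon.isZero_X K hn

end Acyclic

end Groth.Agent.KFlatAll
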