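import Mathlib.CategoryTheory.Functor.Derived.PointwiseLeftDerived
import Mathlib.CategoryTheory.Localization.Predicate
import Mathlib.CategoryTheory.MorphismProperty.Composition
import Mathlib.CategoryTheory.NatIso

/-!
Left derived functors from a functorial resolution: if `Φ` inverts `W` between good objects and every object has
a functorial good resolution, the total left derived functor exists, and a natural transformation
`L ⋙ LF ⟶ Φ` is one iff its components at good objects are isomorphisms.
-/

universe v₁ v₂ v₃ u₁ u₂ u₃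

open CategoryTheory

namespace Groth.Agent.KFlat

variable {C : Type u₁} [Category.{v₁} C] {D : Type u₂} [Category.{v₂} D] {H : Type u₃} [Category.{v₃} H]
  (W : MorphismProperty C)

/-- A functorial resolution by good objects. -/
structure FunctorialRes where
  /-- the good objects -/
  good : C → Prop
  /-- the resolution functor -/
  R : C ⥤ C
  /-- the augmentation -/
  q : R ⟶ 𝟭 C
  good_R : ∀ X, good (R.obj X)
  q_mem : ∀ X, W (q.app X)
  map_mem : ∀ {X Y : C} (f : X ⟶ Y), W f → W (R.map f)

variable {W}

/-- The functor inverts the weak equivalences between good objects. -/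
def FunctorialRes.Inverts (r : FunctorialRes W) (Φ : C ⥤ H) : Prop :=
  ∀ ⦃X Y : C⦄ (f : X ⟶ Y), r.good X → r.good Y → W f → IsIso (Φ.map f)

variable (r : FunctorialRes W) {Φ : C ⥤ H} (L : C ⥤ D) [L.IsLocalization W]

lemma FunctorialRes.comp_inverts (hΦ : r.Inverts Φ) : W.IsInvertedBy (r.R ⋙ Φ) :=
  fun _ _ f hf => hΦ _ (r.good_R _) (r.good_R _) (r.map_mem f hf)

/-- The model of the left derived functor. -/
noncomputable def FunctorialRes.model (hΦ : r.Inverts Φ) : D ⥤ H :=
  Localization.lift (r.R ⋙ Φ) (r.comp_inverts hΦ) L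

/-- The model restricted along `L`. -/
noncomputable def FunctorialRes.modelIso (hΦ : r.Inverts Φ) : L ⋙ r.model L hΦ ≅ r.R ⋙ Φ :=
  Localization.fac (r.R ⋙ Φ) (r.comp_inverts hΦ) L

/-- The counit of the model. -/
noncomputable def FunctorialRes.modelCounit (hΦ : r.Inverts Φ) : L ⋙ r.model L hΦ ⟶ Φ :=
  (r.modelIso L hΦ).hom ≫ Functor.whiskerRight r.q Φ ≫ Φ.leftUnitor.hom

lemma FunctorialRes.isIso_modelCounit (hΦ : r.Inverts Φ) (X : C) (hX : r.good X) :
    IsIso ((r.modelCounit L hΦ).app X) := by
  have : IsIso (Φ.map (r.q.app X)) := hΦ _ (r.good_R X) hX (r.q_mem X)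
  simp only [FunctorialRes.modelCounit, NatTrans.comp_app, Functor.whiskerRight_app, Functor.leftUnitor_hom_app,
    Category.comp_id]
  exact IsIso.comp_isIso' inferInstance (by erw [Category.comp_id]; exact this)

lemma FunctorialRes.exists_good_iso (Y : D) : ∃ X, r.good X ∧ Nonempty (L.obj X ≅ Y) := by
  have := Localization.essSurj L W
  have := Localization.inverts L W _ (r.q_mem (L.objPreimage Y))
  exact ⟨r.R.obj (L.objPreimage Y), r.good_R _,
    ⟨asIso (L.map (r.q.app (L.objPreimage Y))) ≪≫ L.objObjPreimageIso Y⟩⟩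

/-- A natural transformation invertible at good objects is invertible. -/
lemma FunctorialRes.isIso_app {F G : D ⥤ H} (γ : F ⟶ G) (h : ∀ X, r.good X → IsIso (γ.app (L.obj X))) (Y : D) :
    IsIso (γ.app Y) := by
  obtain ⟨X, hX, ⟨e⟩⟩ := r.exists_good_iso L Y
  exact (NatTrans.isIso_app_iff_of_iso γ e).1 (h X hX)

lemma FunctorialRes.model_isLeftDerivedFunctor (hΦ : r.Inverts Φ) :
    (r.model L hΦ).IsLeftDerivedFunctor (r.modelCounit L hΦ) W where
  isRightKanExtension := by
    have hq : ∀ X, IsIso (L.map (r.q.app X)) := fun X => Localization.inverts L W _ (r.q_mem X)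
    let e := r.modelIso L hΦ
    let δ : ∀ (G : D ⥤ H) (_β : L ⋙ G ⟶ Φ), L ⋙ G ⟶ L ⋙ r.model L hΦ := fun G β =>
      { app := fun X => G.map (inv (L.map (r.q.app X))) ≫ β.app (r.R.obj X) ≫ e.inv.app X
        naturality := fun X Y f => by
          have h1 : L.map f ≫ inv (L.map (r.q.app Y)) = inv (L.map (r.q.app X)) ≫ L.map (r.R.map f) := by
            rw [IsIso.comp_inv_eq, Category.assoc, IsIso.eq_inv_comp, ← L.map_comp, ← L.map_comp, r.q.naturality]
            rfl
          have h2 := β.naturality (r.R.map f)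
          have h3 := e.inv.naturality f
          dsimp at h2 h3 ⊢
          rw [← Functor.map_comp_assoc, h1, Functor.map_comp_assoc, reassoc_of% h2, h3,
            Category.assoc, Category.assoc] }
    have hδ : ∀ (G : D ⥤ H) (β : L ⋙ G ⟶ Φ) (X : C),
        (δ G β).app X ≫ (r.modelCounit L hΦ).app X = β.app X := fun G β X => by
      have h1 := β.naturality (r.q.app X)
      dsimp [δ, FunctorialRes.modelCounit, e] at h1 ⊢
      simp only [Category.assoc, Iso.inv_hom_id_app_assoc, Category.comp_id]
      rw [← h1, ← Functor.map_comp_assoc, IsIso.inv_hom_id]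
      simp
    let lift : ∀ (G : D ⥤ H) (_β : L ⋙ G ⟶ Φ), G ⟶ r.model L hΦ := fun G β =>
      Localization.liftNatTrans L W (L ⋙ G) (L ⋙ r.model L hΦ) G (r.model L hΦ) (δ G β)
    have happ : ∀ (G : D ⥤ H) (β : L ⋙ G ⟶ Φ) (X : C), (lift G β).app (L.obj X) = (δ G β).app X :=
      fun G β X => by simp [lift, Localization.liftNatTrans_app, Localization.Lifting.iso]
    refine ⟨⟨Limits.IsTerminal.ofUniqueHom
      (fun E => CostructuredArrow.homMk (lift E.left E.hom) (NatTrans.ext (funext fun X => ?_))) ?_⟩⟩
    · change (lift E.left E.hom).app (L.obj X) ≫ (r.modelCounit L hΦ).app X = E.hom.app X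
      rw [happ, hδ]
    · intro E m
      let m' : E.left ⟶ r.model L hΦ := m.left
      refine CostructuredArrow.hom_ext _ _ ?_
      change m' = lift E.left E.hom
      have hm : ∀ X, m'.app (L.obj X) ≫ (r.modelCounit L hΦ).app X = E.hom.app X := fun X =>
        congrArg (fun t : NatTrans _ _ => t.app X) (CostructuredArrow.w m)
      refine Localization.natTrans_ext L W fun X => ?_
      have key : ∀ Y, r.good Y → m'.app (L.obj Y) = (lift E.left E.hom).app (L.obj Y) := fun Y hY => by
        have := r.isIso_modelCounit L hΦ Y hY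
        rw [← cancel_mono ((r.modelCounit L hΦ).app Y), happ]
        exact (hm Y).trans (hδ _ _ Y).symm
      rw [← cancel_epi (E.left.map (L.map (r.q.app X)))]
      exact (m'.naturality (L.map (r.q.app X))).trans ((congrArg (fun t => t ≫ _) (key _ (r.good_R X))).trans
        ((lift E.left E.hom).naturality (L.map (r.q.app X))).symm)

lemma FunctorialRes.hasLeftDerivedFunctor (hΦ : r.Inverts Φ) : Φ.HasLeftDerivedFunctor W :=
  have := r.model_isLeftDerivedFunctor W.Q hΦ
  Functor.HasLeftDerivedFunctor.mk' (LF := r.model W.Q hΦ) (α := r.modelCounit W.Q hΦ) (L := W.Q)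

/-- The counit of any left derived functor is invertible at good objects. -/
lemma FunctorialRes.isIso_counit (hΦ : r.Inverts Φ) (LF : D ⥤ H) (α : L ⋙ LF ⟶ Φ)
    [LF.IsLeftDerivedFunctor α W] (X : C) (hX : r.good X) : IsIso (α.app X) := by
  have := r.model_isLeftDerivedFunctor L hΦ
  have := r.isIso_modelCounit L hΦ X hX
  let e := Functor.leftDerivedUnique LF (r.model L hΦ) (r.modelCounit L hΦ) α W
  have h : e.inv.app (L.obj X) ≫ (r.modelCounit L hΦ).app X = α.app X := by
    simp [e, Functor.leftDerivedNatTrans_app]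
  rw [← h]
  infer_instance

/-- A natural transformation with invertible components at good objects exhibits a left derived functor. -/
lemma FunctorialRes.isLeftDerivedFunctor_of_isIso (hΦ : r.Inverts Φ) (LF : D ⥤ H) (α : L ⋙ LF ⟶ Φ)
    (hα : ∀ X, r.good X → IsIso (α.app X)) : LF.IsLeftDerivedFunctor α W := by
  have := r.model_isLeftDerivedFunctor L hΦ
  rw [Functor.isLeftDerivedFunctor_iff_isIso_leftDerivedLift (r.model L hΦ) (r.modelCounit L hΦ) W]
  have : ∀ Y, IsIso (((r.model L hΦ).leftDerivedLift (r.modelCounit L hΦ) W LF α).app Y) :=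
    r.isIso_app L _ fun X hX => by
      have := hα X hX
      have := r.isIso_modelCounit L hΦ X hX
      have h := (r.model L hΦ).leftDerived_fac_app (r.modelCounit L hΦ) W LF α X
      exact IsIso.of_isIso_fac_right h
  exact NatIso.isIso_of_isIso_app _

end Groth.Agent.KFlat
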