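import Groth.Agent.KFlat.Resolution
import Groth.Agent.KFlat.Derived
import Mathlib.Algebra.Homology.BifunctorShift
import Mathlib.Algebra.Homology.BifunctorFlip
import Mathlib.Algebra.Homology.HomologySequenceLemmas
import Mathlib.Algebra.Homology.HomotopyCategory.DegreewiseSplit
import Mathlib.Algebra.Homology.HomotopyCategory.ShiftSequence
import Mathlib.Algebra.Homology.Localization
import Mathlib.Algebra.Homology.HomotopyCategory.Acyclic

/-!
K-flat complexes for a bifunctor `F : C ⥤ C ⥤ C` on an abelian category, additive in each variable.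
-/

universe v u

open CategoryTheory CategoryTheory.Limits HomologicalComplex

namespace Groth.Agent.KFlat

variable {C : Type u} [Category.{v} C] [Abelian C] (F : C ⥤ C ⥤ C) [F.Additive] [∀ X, (F.obj X).Additive]
  [∀ K L : CochainComplex C ℤ, HasMapBifunctor K L F (ComplexShape.up ℤ)]

/-- `(- ⊗ K)`. -/
noncomputable abbrev tensL (K : CochainComplex C ℤ) : CochainComplex C ℤ ⥤ CochainComplex C ℤ :=
  F.map₂CochainComplex.flip.obj K

/-- `(L ⊗ -)`. -/
noncomputable abbrev tensR (L : CochainComplex C ℤ) : CochainComplex C ℤ ⥤ CochainComplex C ℤ :=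
  F.map₂CochainComplex.obj L

/-- `K` is K-flat in the second slot: `M ⊗ K` is acyclic for acyclic `M`. -/
def FlatR (K : CochainComplex C ℤ) : Prop :=
  ∀ M : CochainComplex C ℤ, (∀ i, IsZero (M.homology i)) →
    ∀ i, IsZero (((tensR F M).obj K).homology i)

/-- `K` is K-flat in the first slot: `K ⊗ M` is acyclic for acyclic `M`. -/
def FlatL (K : CochainComplex C ℤ) : Prop :=
  ∀ M : CochainComplex C ℤ, (∀ i, IsZero (M.homology i)) →
    ∀ i, IsZero (((tensR F K).obj M).homology i)

lemma isZero_homology_iff {K : CochainComplex C ℤ} : (∀ i, IsZero (K.homology i)) ↔ K.Acyclic :=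
  forall_congr' fun i => (K.exactAt_iff_isZero_homology i).symm

section Deg

variable (L : CochainComplex C ℤ) {K K' K'' : CochainComplex C ℤ}

/-- `L ⊗ -` on a family of maps in each degree. -/
noncomputable def degR (g : ∀ q, K.X q ⟶ K'.X q) (n : ℤ) :
    (mapBifunctor L K F (ComplexShape.up ℤ)).X n ⟶ (mapBifunctor L K' F (ComplexShape.up ℤ)).X n :=
  mapBifunctorDesc fun p q h => (F.obj (L.X p)).map (g q) ≫ ιMapBifunctor L K' F _ p q n h

lemma degR_comp (g : ∀ q, K.X q ⟶ K'.X q) (g' : ∀ q, K'.X q ⟶ K''.X q) (n : ℤ) :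
    degR F L g n ≫ degR F L g' n = degR F L (fun q => g q ≫ g' q) n :=
  mapBifunctor.hom_ext fun p q h => by simp [degR]

lemma degR_id (n : ℤ) : degR F L (fun q => 𝟙 (K.X q)) n = 𝟙 _ :=
  mapBifunctor.hom_ext fun p q h => by simp [degR]

lemma degR_add (g g' : ∀ q, K.X q ⟶ K'.X q) (n : ℤ) :
    degR F L (fun q => g q + g' q) n = degR F L g n + degR F L g' n :=
  mapBifunctor.hom_ext fun p q h => by simp [degR, Functor.map_add]

lemma mapBifunctorMap_f_eq_degR (f : K ⟶ K') (n : ℤ) :
    (mapBifunctorMap (𝟙 L) f F (ComplexShape.up ℤ)).f n = degR F L f.f n :=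
  mapBifunctor.hom_ext fun p q h => by simp [degR]

/-- `- ⊗ L` on a family of maps in each degree. -/
noncomputable def degL (g : ∀ p, K.X p ⟶ K'.X p) (n : ℤ) :
    (mapBifunctor K L F (ComplexShape.up ℤ)).X n ⟶ (mapBifunctor K' L F (ComplexShape.up ℤ)).X n :=
  mapBifunctorDesc fun p q h => (F.map (g p)).app (L.X q) ≫ ιMapBifunctor K' L F _ p q n h

lemma degL_comp (g : ∀ q, K.X q ⟶ K'.X q) (g' : ∀ q, K'.X q ⟶ K''.X q) (n : ℤ) :
    degL F L g n ≫ degL F L g' n = degL F L (fun q => g q ≫ g' q) n :=
  mapBifunctor.hom_ext fun p q h => by simp [degL]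

lemma degL_id (n : ℤ) : degL F L (fun q => 𝟙 (K.X q)) n = 𝟙 _ :=
  mapBifunctor.hom_ext fun p q h => by simp [degL]

lemma degL_add (g g' : ∀ q, K.X q ⟶ K'.X q) (n : ℤ) :
    degL F L (fun q => g q + g' q) n = degL F L g n + degL F L g' n :=
  mapBifunctor.hom_ext fun p q h => by simp [degL, Functor.map_add]

lemma mapBifunctorMap_f_eq_degL (f : K ⟶ K') (n : ℤ) :
    (mapBifunctorMap f (𝟙 L) F (ComplexShape.up ℤ)).f n = degL F L f.f n :=
  mapBifunctor.hom_ext fun p q h => by simp [degL]

end Deg

instance (L : CochainComplex C ℤ) : (tensR F L).Additive where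
  map_add {K K' f g} := by
    refine HomologicalComplex.hom_ext _ _ fun n => ?_
    exact (mapBifunctorMap_f_eq_degR F L (f + g) n).trans ((degR_add F L f.f g.f n).trans
      (congrArg₂ (· + ·) (mapBifunctorMap_f_eq_degR F L f n).symm (mapBifunctorMap_f_eq_degR F L g n).symm))

instance (K : CochainComplex C ℤ) : (tensL F K).Additive where
  map_add {L L' f g} := by
    refine HomologicalComplex.hom_ext _ _ fun n => ?_
    exact (mapBifunctorMap_f_eq_degL F K (f + g) n).trans ((degL_add F K f.f g.f n).trans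
      (congrArg₂ (· + ·) (mapBifunctorMap_f_eq_degL F K f n).symm (mapBifunctorMap_f_eq_degL F K g n).symm))

section SplitExact

variable (S : ShortComplex (CochainComplex C ℤ)) (σ : ∀ n, (S.map (eval C (ComplexShape.up ℤ) n)).Splitting)

/-- A degreewise splitting induces one after tensoring on the left. -/
noncomputable def splittingR (L : CochainComplex C ℤ) (n : ℤ) :
    ((S.map (tensR F L)).map (eval C (ComplexShape.up ℤ) n)).Splitting where
  r := degR F L (fun q => (σ q).r) n
  s := degR F L (fun q => (σ q).s) n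
  f_r := (congrArg (fun t => t ≫ _) (mapBifunctorMap_f_eq_degR F L S.f n)).trans
    ((degR_comp F L _ _ n).trans ((congrArg (fun g => degR F L g n) (funext fun q => (σ q).f_r)).trans (degR_id F L n)))
  s_g := (congrArg (fun t => _ ≫ t) (mapBifunctorMap_f_eq_degR F L S.g n)).trans
    ((degR_comp F L _ _ n).trans ((congrArg (fun g => degR F L g n) (funext fun q => (σ q).s_g)).trans (degR_id F L n)))
  id := (congrArg₂ (· + ·)
      ((congrArg (fun t => _ ≫ t) (mapBifunctorMap_f_eq_degR F L S.f n)).trans (degR_comp F L _ _ n))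
      ((congrArg (fun t => t ≫ _) (mapBifunctorMap_f_eq_degR F L S.g n)).trans (degR_comp F L _ _ n))).trans
    ((degR_add F L _ _ n).symm.trans
      ((congrArg (fun g => degR F L g n) (funext fun q => (σ q).id)).trans (degR_id F L n)))

/-- A degreewise splitting induces one after tensoring on the right. -/
noncomputable def splittingL (K : CochainComplex C ℤ) (n : ℤ) :
    ((S.map (tensL F K)).map (eval C (ComplexShape.up ℤ) n)).Splitting where
  r := degL F K (fun q => (σ q).r) n
  s := degL F K (fun q => (σ q).s) n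
  f_r := (congrArg (fun t => t ≫ _) (mapBifunctorMap_f_eq_degL F K S.f n)).trans
    ((degL_comp F K _ _ n).trans ((congrArg (fun g => degL F K g n) (funext fun q => (σ q).f_r)).trans (degL_id F K n)))
  s_g := (congrArg (fun t => _ ≫ t) (mapBifunctorMap_f_eq_degL F K S.g n)).trans
    ((degL_comp F K _ _ n).trans ((congrArg (fun g => degL F K g n) (funext fun q => (σ q).s_g)).trans (degL_id F K n)))
  id := (congrArg₂ (· + ·)
      ((congrArg (fun t => _ ≫ t) (mapBifunctorMap_f_eq_degL F K S.f n)).trans (degL_comp F K _ _ n))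
      ((congrArg (fun t => t ≫ _) (mapBifunctorMap_f_eq_degL F K S.g n)).trans (degL_comp F K _ _ n))).trans
    ((degL_add F K _ _ n).symm.trans
      ((congrArg (fun g => degL F K g n) (funext fun q => (σ q).id)).trans (degL_id F K n)))

include σ in
lemma shortExact_of_splitting : S.ShortExact :=
  shortExact_of_degreewise_shortExact S fun n => (σ n).shortExact

include σ in
lemma shortExact_tensR (L : CochainComplex C ℤ) : (S.map (tensR F L)).ShortExact :=
  shortExact_of_splitting _ (splittingR F S σ L)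

include σ in
lemma shortExact_tensL (K : CochainComplex C ℤ) : (S.map (tensL F K)).ShortExact :=
  shortExact_of_splitting _ (splittingL F S σ K)

end SplitExact

omit [∀ K L : CochainComplex C ℤ, HasMapBifunctor K L F (ComplexShape.up ℤ)] in
lemma quasiIso_f_of_acyclic {S : ShortComplex (CochainComplex C ℤ)} (hS : S.ShortExact) (h₃ : S.X₃.Acyclic) :
    QuasiIso S.f := by
  rw [quasiIso_iff]
  intro n
  rw [quasiIsoAt_iff_isIso_homologyMap]
  have h : ∀ i, IsZero (S.X₃.homology i) := isZero_homology_iff.2 h₃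
  have : Mono (homologyMap S.f n) :=
    (hS.homology_exact₁ (n - 1) n (by simp)).mono_g ((h _).eq_of_src _ _)
  have : Epi (homologyMap S.f n) := (hS.homology_exact₂ n).epi_f ((h _).eq_of_tgt _ _)
  exact isIso_of_mono_of_epi _

/-- The cone of an identity is acyclic. -/
lemma acyclic_mappingCone_id (L₁ : CochainComplex C ℤ) : (CochainComplex.mappingCone (𝟙 L₁)).Acyclic := by
  let c := CochainComplex.mappingCone (𝟙 L₁)
  intro n
  rw [exactAt_iff_isZero_homology]
  have e : Homotopy (𝟙 c) 0 := CochainComplex.mappingCone.descHomotopy (𝟙 L₁) _ _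
    (CochainComplex.HomComplex.Cochain.mk fun p q hpq => 0)
    (CochainComplex.mappingCone.inl (𝟙 L₁))
    (by simp [c, CochainComplex.HomComplex.δ_zero, show CochainComplex.HomComplex.Cochain.mk
        (fun (p q : ℤ) (hpq : p + (-2) = q) => (0 : L₁.X p ⟶ c.X q)) = 0 from rfl])
    (by simp [c])
  rw [IsZero.iff_id_eq_zero, ← HomologicalComplex.homologyMap_id, e.homologyMap_eq n, homologyMap_zero]

/-- The cone of a quasi-isomorphism is acyclic. -/
lemma acyclic_mappingCone_of_quasiIso {K L : CochainComplex C ℤ} (φ : K ⟶ L) [QuasiIso φ] :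
    (CochainComplex.mappingCone φ).Acyclic :=
  (HomotopyCategory.quotient_obj_mem_subcategoryAcyclic_iff_acyclic _).1
    (((HomotopyCategory.subcategoryAcyclic C).trW_iff_of_distinguished _
      (HomotopyCategory.mappingCone_triangleh_distinguished φ)).1
      (HomotopyCategory.quasiIso_eq_trW_subcategoryAcyclic C ▸
        (HomotopyCategory.quotient_map_mem_quasiIso_iff φ).2 (by rw [HomologicalComplex.mem_quasiIso_iff]; infer_instance)))

/-- A functor preserving degreewise split short exact sequences and acyclicity preserves quasi-isomorphisms. -/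
lemma quasiIso_map_of_preserves (T : CochainComplex C ℤ ⥤ CochainComplex C ℤ) [T.Additive]
    (hsplit : ∀ (S : ShortComplex (CochainComplex C ℤ)),
      (∀ n, (S.map (eval C (ComplexShape.up ℤ) n)).Splitting) → (S.map T).ShortExact)
    (hac : ∀ M : CochainComplex C ℤ, M.Acyclic → (T.obj M).Acyclic)
    {L₁ L₂ : CochainComplex C ℤ} (f : L₁ ⟶ L₂) (hf : QuasiIso f) : QuasiIso (T.map f) := by
  let c := CochainComplex.mappingCone (𝟙 L₁)
  let i : L₁ ⟶ L₂ ⊞ c := biprod.lift f (CochainComplex.mappingCone.inr (𝟙 L₁))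
  let r : ∀ n, (L₂ ⊞ c).X n ⟶ L₁.X n := fun n =>
    (biprod.snd : L₂ ⊞ c ⟶ c).f n ≫ (CochainComplex.mappingCone.snd (𝟙 L₁)).v n n (add_zero n)
  have hr : ∀ n, i.f n ≫ r n = 𝟙 _ := fun n => by
    dsimp only [r, i]
    rw [← Category.assoc, ← HomologicalComplex.comp_f, biprod.lift_snd]
    simp [c]
  let S : ShortComplex (CochainComplex C ℤ) := ShortComplex.mk i (cokernel.π i) (cokernel.condition i)
  have hSe : S.Exact := ShortComplex.exact_of_g_is_cokernel S (cokernelIsCokernel i)
  have hσ : ∀ n, (S.map (eval C (ComplexShape.up ℤ) n)).Splitting := fun n =>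
    ShortComplex.Splitting.ofExactOfRetraction _ (hSe.map (eval C (ComplexShape.up ℤ) n)) (r n) (hr n)
      (inferInstanceAs (Epi ((eval C (ComplexShape.up ℤ) n).map (cokernel.π i))))
  have hc : c.Acyclic := acyclic_mappingCone_id L₁
  have hfst : ∀ {K L : CochainComplex C ℤ}, L.Acyclic → QuasiIso (biprod.fst : K ⊞ L ⟶ K) := @fun K L hL => by
    let S' : ShortComplex (CochainComplex C ℤ) := ShortComplex.mk (biprod.inl : K ⟶ K ⊞ L) biprod.snd biprod.inl_snd
    have hS' : S'.ShortExact :=
      ShortComplex.Splitting.shortExact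
        { r := biprod.fst, s := biprod.inr, f_r := biprod.inl_fst, s_g := biprod.inr_snd, id := biprod.total }
    have := quasiIso_f_of_acyclic hS' hL
    have h1 : QuasiIso ((biprod.inl : K ⟶ K ⊞ L) ≫ biprod.fst) := by rw [biprod.inl_fst]; infer_instance
    exact quasiIso_of_comp_left (biprod.inl : K ⟶ K ⊞ L) biprod.fst
  have hi : QuasiIso i := by
    have := hfst (K := L₂) hc
    have : QuasiIso (i ≫ biprod.fst) := by rw [biprod.lift_fst]; exact hf
    exact quasiIso_of_comp_right i biprod.fst
  have hcok : (cokernel i).Acyclic := (shortExact_of_splitting S hσ).acyclic_X₃ hi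
  have : QuasiIso (T.map (biprod.fst : L₂ ⊞ c ⟶ L₂)) := by
    let S' : ShortComplex (CochainComplex C ℤ) := ShortComplex.mk (biprod.inl : L₂ ⟶ L₂ ⊞ c) biprod.snd biprod.inl_snd
    let σ' : S'.Splitting :=
      { r := biprod.fst, s := biprod.inr, f_r := biprod.inl_fst, s_g := biprod.inr_snd, id := biprod.total }
    have h1 : QuasiIso (T.map (biprod.inl : L₂ ⟶ L₂ ⊞ c)) :=
      quasiIso_f_of_acyclic (σ'.map T).shortExact (hac _ hc)
    have h2 : QuasiIso (T.map (biprod.inl : L₂ ⟶ L₂ ⊞ c) ≫ T.map biprod.fst) := by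
      rw [← T.map_comp, biprod.inl_fst, T.map_id]; infer_instance
    exact quasiIso_of_comp_left (T.map (biprod.inl : L₂ ⟶ L₂ ⊞ c)) _
  have h4 : QuasiIso (T.map i) := quasiIso_f_of_acyclic (hsplit S hσ) (hac _ hcok)
  rw [show f = i ≫ biprod.fst from (biprod.lift_fst _ _).symm, T.map_comp]
  exact quasiIso_comp (T.map i) _

/-- `- ⊗ K` preserves quasi-isomorphisms for `K` K-flat. -/
lemma FlatR.quasiIso {K : CochainComplex C ℤ} (hK : FlatR F K) {L₁ L₂ : CochainComplex C ℤ} (f : L₁ ⟶ L₂)
    (hf : QuasiIso f) : QuasiIso ((tensL F K).map f) :=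
  quasiIso_map_of_preserves _ (fun S σ => shortExact_tensL F S σ K)
    (fun M hM => isZero_homology_iff.1 (hK M (isZero_homology_iff.2 hM))) f hf

/-- `K ⊗ -` preserves quasi-isomorphisms for `K` K-flat. -/
lemma FlatL.quasiIso {K : CochainComplex C ℤ} (hK : FlatL F K) {L₁ L₂ : CochainComplex C ℤ} (f : L₁ ⟶ L₂)
    (hf : QuasiIso f) : QuasiIso ((tensR F K).map f) :=
  quasiIso_map_of_preserves _ (fun S σ => shortExact_tensR F S σ K)
    (fun M hM => isZero_homology_iff.1 (hK M (isZero_homology_iff.2 hM))) f hf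

section Closure

lemma FlatR.of_iso {K K' : CochainComplex C ℤ} (e : K ≅ K') (hK : FlatR F K) : FlatR F K' := fun M hM i =>
  (hK M hM i).of_iso ((homologyFunctor C (ComplexShape.up ℤ) i).mapIso ((tensR F M).mapIso e)).symm

lemma FlatR.of_isZero {K : CochainComplex C ℤ} (hK : IsZero K) : FlatR F K := fun M _ i =>
  Functor.map_isZero (homologyFunctor C (ComplexShape.up ℤ) i) ((tensR F M).map_isZero hK)

lemma FlatR.shift {K : CochainComplex C ℤ} (hK : FlatR F K) (n : ℤ) : FlatR F (K⟦n⟧) := fun M hM i =>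
  ((hK M hM (n + i)).of_iso
    ((((homologyFunctor C (ComplexShape.up ℤ) 0).shiftIso n i (n + i) rfl).app ((tensR F M).obj K)))).of_iso
    ((homologyFunctor C (ComplexShape.up ℤ) i).mapIso (CochainComplex.mapBifunctorShift₂Iso M K F n))

lemma FlatR.X₂ {S : ShortComplex (CochainComplex C ℤ)}
    (σ : ∀ n, (S.map (eval C (ComplexShape.up ℤ) n)).Splitting) (h₁ : FlatR F S.X₁) (h₃ : FlatR F S.X₃) :
    FlatR F S.X₂ := fun M hM =>
  isZero_homology_iff.2 ((shortExact_tensR F S σ M).acyclic_X₂
    (isZero_homology_iff.1 (h₁ M hM)) (isZero_homology_iff.1 (h₃ M hM)))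

/-- A cone of a map between K-flat complexes is K-flat. -/
lemma FlatR.mappingCone {K L : CochainComplex C ℤ} (φ : K ⟶ L) (hK : FlatR F K) (hL : FlatR F L) :
    FlatR F (CochainComplex.mappingCone φ) :=
  FlatR.X₂ F (S := CochainComplex.mappingCone.triangleRotateShortComplex φ)
    (CochainComplex.mappingCone.triangleRotateShortComplexSplitting φ) hL (hK.shift F 1)

section Colimits

variable {J : Type*} [Category J] [HasColimitsOfShape J C]

/-- `L ⊗ -` preserves the colimits preserved by each `F.obj X`. -/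
lemma preservesColimitsOfShape_tensR [∀ X, PreservesColimitsOfShape J (F.obj X)] (L : CochainComplex C ℤ) :
    PreservesColimitsOfShape J (tensR F L) where
  preservesColimit {D} := ⟨fun {c} hc => ⟨isColimitOfEval _ _ fun n => by
    refine
      { desc := fun s => mapBifunctorDesc fun p q h =>
          (isColimitOfPreserves (eval C (ComplexShape.up ℤ) q ⋙ F.obj (L.X p)) hc).desc
            ⟨s.pt, { app := fun j => ιMapBifunctor L (D.obj j) F _ p q n h ≫ s.ι.app j
                     naturality := fun j j' a => ?_ }⟩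
        fac := fun s j => mapBifunctor.hom_ext fun p q h => ?_
        uniq := fun s m hm => mapBifunctor.hom_ext fun p q h => ?_ }
    · have := s.w a
      dsimp at this ⊢
      rw [← this]
      simp only [Category.comp_id]
      refine Eq.trans ?_ (congrArg (fun t => ιMapBifunctor L (D.obj j) F _ p q n h ≫ t)
        (congrArg (fun t => t ≫ s.ι.app j') (mapBifunctorMap_f_eq_degR F L (D.map a) n).symm))
      simp only [degR]
      erw [ι_mapBifunctorDesc_assoc, Category.assoc]
      rfl
    · refine (congrArg (fun t => ιMapBifunctor L (D.obj j) F _ p q n h ≫ t)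
        (congrArg (fun t => t ≫ _) (mapBifunctorMap_f_eq_degR F L (c.ι.app j) n))).trans ?_
      simp only [degR]
      erw [ι_mapBifunctorDesc_assoc, Category.assoc, ι_mapBifunctorDesc]
      exact (isColimitOfPreserves (eval C (ComplexShape.up ℤ) q ⋙ F.obj (L.X p)) hc).fac _ j
    · refine (isColimitOfPreserves (eval C (ComplexShape.up ℤ) q ⋙ F.obj (L.X p)) hc).hom_ext fun j => ?_
      erw [ι_mapBifunctorDesc, IsColimit.fac]
      refine Eq.trans ?_ (congrArg (fun t => ιMapBifunctor L (D.obj j) F _ p q n h ≫ t) (hm j))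
      refine Eq.trans ?_ (congrArg (fun t => ιMapBifunctor L (D.obj j) F _ p q n h ≫ t ≫ m)
        (mapBifunctorMap_f_eq_degR F L (c.ι.app j) n).symm)
      simp only [degR]
      erw [ι_mapBifunctorDesc_assoc, Category.assoc]
      rfl⟩⟩

lemma FlatR.colimit [HasExactColimitsOfShape J C] [∀ X, PreservesColimitsOfShape J (F.obj X)]
    (D : J ⥤ CochainComplex C ℤ) (hD : ∀ j, FlatR F (D.obj j)) : FlatR F (colimit D) := fun M hM i => by
  have := preservesColimitsOfShape_tensR F (J := J) M
  exact ((exactAt_of_isColimit (D ⋙ tensR F M) _ (isColimitOfPreserves (tensR F M) (colimit.isColimit D)) i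
    fun j => (exactAt_iff_isZero_homology _ _).2 (hD j M hM i))).isZero_homology

end Colimits

end Closure

section Single

variable (M : CochainComplex C ℤ) (P : C)

/-- Degree `n` of `M ⊗ P[0]`. -/
noncomputable def singleX (n : ℤ) :
    (F.obj (M.X n)).obj P ≅ (mapBifunctor M ((single C (ComplexShape.up ℤ) 0).obj P) F (ComplexShape.up ℤ)).X n where
  hom := (F.obj (M.X n)).map (singleObjXSelf (ComplexShape.up ℤ) 0 P).inv ≫
    ιMapBifunctor M _ F _ n 0 n (add_zero n)
  inv := mapBifunctorDesc fun p q h =>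
    if hq : q = 0 then
      (F.map (M.XIsoOfEq (show p = n by subst hq; simpa using h)).hom).app _ ≫
        (F.obj _).map (singleObjXIsoOfEq (ComplexShape.up ℤ) 0 P q hq).hom
    else 0
  hom_inv_id := by
    rw [Category.assoc, ι_mapBifunctorDesc, dif_pos rfl]
    simp [singleObjXSelf, ← Functor.map_comp]
  inv_hom_id := mapBifunctor.hom_ext fun p q h => by
    rw [ι_mapBifunctorDesc_assoc]
    by_cases hq : q = 0
    · subst hq
      obtain rfl : p = n := by simpa using h
      rw [dif_pos rfl]
      simp [singleObjXSelf, ← Functor.map_comp_assoc]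
    · exact ((Functor.map_isZero _ (isZero_single_obj_X (ComplexShape.up ℤ) 0 P q hq)).eq_of_src _ _)

lemma singleX_hom_d (i j : ℤ) (hij : i + 1 = j) :
    (singleX F M P i).hom ≫ (mapBifunctor M ((single C (ComplexShape.up ℤ) 0).obj P) F (ComplexShape.up ℤ)).d i j =
      (F.map (M.d i j)).app P ≫ (singleX F M P j).hom := by
  dsimp [singleX]
  rw [Category.assoc, mapBifunctor.d_eq, Preadditive.comp_add, mapBifunctor.ι_D₁, mapBifunctor.ι_D₂,
    mapBifunctor.d₁_eq M _ F _ hij 0 j (by simp)]
  have hd : mapBifunctor.d₂ M ((single C (ComplexShape.up ℤ) 0).obj P) F (ComplexShape.up ℤ) i 0 j = 0 := by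
    rw [mapBifunctor.d₂_eq M _ F (ComplexShape.up ℤ) i (show (ComplexShape.up ℤ).Rel 0 (0 + 1) from rfl) j (by simp; omega)]
    simp
  rw [hd]
  simp [NatTrans.naturality_assoc]

/-- `M ⊗ P[0] ≅ (- ⊗ P)` applied termwise. -/
noncomputable def singleIso :
    ((F.flip.obj P).mapHomologicalComplex (ComplexShape.up ℤ)).obj M ≅
      mapBifunctor M ((single C (ComplexShape.up ℤ) 0).obj P) F (ComplexShape.up ℤ) :=
  Hom.isoOfComponents (fun n => singleX F M P n) fun i j hij => singleX_hom_d F M P i j hij

/-- A flat object in degree zero is K-flat. -/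
lemma flatR_single_zero [(F.flip.obj P).PreservesHomology] :
    FlatR F ((single C (ComplexShape.up ℤ) 0).obj P) := fun M hM i => by
  refine IsZero.of_iso ?_ ((homologyFunctor C (ComplexShape.up ℤ) i).mapIso (singleIso F M P).symm)
  rw [homologyFunctor_obj, ← exactAt_iff_isZero_homology]
  exact ((isZero_homology_iff.1 hM) i).map (F.flip.obj P)

/-- A flat object in any degree is K-flat. -/
lemma flatR_single [(F.flip.obj P).PreservesHomology] (n : ℤ) :
    FlatR F ((CochainComplex.singleFunctor C n).obj P) := by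
  have h : FlatR F (((CochainComplex.singleFunctor C 0).obj P)⟦-n⟧) := (flatR_single_zero F P).shift F (-n)
  exact h.of_iso F (((CochainComplex.singleFunctors C).shiftIso (-n) n 0 (by omega)).app P)

end Single

section Resolution

variable [HasCoproducts.{v} C] [HasColimitsOfShape ℕ C] [HasExactColimitsOfShape ℕ C]
  [∀ ι : Type v, HasExactColimitsOfShape (Discrete ι) C]
  [∀ X, PreservesColimitsOfShape ℕ (F.obj X)]
  [∀ (ι : Type v) X, PreservesColimitsOfShape (Discrete ι) (F.obj X)]

/-- The resolution by a separating family of flat objects is K-flat. -/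
lemma flatR_R {κ : Type v} (S : κ → C) [∀ i, (F.flip.obj (S i)).PreservesHomology] (G : CochainComplex C ℤ) :
    FlatR F ((Res.R S).obj G) := by
  refine Res.prop_R S G (FlatR F) (fun Z hZ => FlatR.of_isZero F hZ) ?_ (fun D hD => FlatR.colimit F D hD)
  intro ι deg idx L φ hL
  exact FlatR.mappingCone F φ (FlatR.colimit F _ fun ⟨x⟩ => flatR_single F (S (idx x)) (deg x)) hL

end Resolution

section Pairs

variable [HasCoproducts.{v} C] [HasColimitsOfShape ℕ C] [HasExactColimitsOfShape ℕ C]
  [∀ ι : Type v, HasExactColimitsOfShape (Discrete ι) C]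
  [∀ X, PreservesColimitsOfShape ℕ (F.obj X)]
  [∀ (ι : Type v) X, PreservesColimitsOfShape (Discrete ι) (F.obj X)]
  {κ : Type v} (S : κ → C) [∀ i, (F.flip.obj (S i)).PreservesHomology]
  (hS : ∀ {X Y : C} (f g : X ⟶ Y), (∀ i (a : S i ⟶ X), a ≫ f = a ≫ g) → f = g)

/-- K-flat resolutions, functorial in the complex. -/
noncomputable def resolution : FunctorialRes (HomologicalComplex.quasiIso C (ComplexShape.up ℤ)) where
  good := FlatR F
  R := Res.R S
  q := Res.q S
  good_R := flatR_R F S
  q_mem G := (mem_quasiIso_iff _).2 (Res.quasiIso_q S G hS)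
  map_mem {X Y} f hf := by
    rw [mem_quasiIso_iff] at hf ⊢
    have := Res.quasiIso_q S X hS
    have := Res.quasiIso_q S Y hS
    have h2 : QuasiIso ((Res.q S).app X ≫ f) := quasiIso_comp _ _
    have h3 : QuasiIso ((Res.R S).map f ≫ (Res.q S).app Y) := by
      rw [(Res.q S).naturality f]
      exact h2
    exact quasiIso_of_comp_right _ ((Res.q S).app Y)

include hS in
/-- Quasi-isomorphisms between K-flat complexes stay quasi-isomorphisms after tensoring with anything. -/
lemma quasiIso_tensR_map (hsymm : ∀ K, FlatR F K → FlatL F K) {P Q : CochainComplex C ℤ} (hP : FlatR F P)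
    (hQ : FlatR F Q) (α : P ⟶ Q) (hα : QuasiIso α) (L : CochainComplex C ℤ) : QuasiIso ((tensR F L).map α) := by
  have hq : QuasiIso ((Res.q S).app L) := Res.quasiIso_q S L hS
  have h1 : QuasiIso ((tensR F ((Res.R S).obj L)).map α) :=
    FlatL.quasiIso F (hsymm _ (flatR_R F S L)) α hα
  have h2 := FlatR.quasiIso F hP _ hq
  have h3 := FlatR.quasiIso F hQ _ hq
  have e := (F.map₂CochainComplex.map ((Res.q S).app L)).naturality α
  have h4 : QuasiIso ((tensR F ((Res.R S).obj L)).map α ≫ (tensL F Q).map ((Res.q S).app L)) := quasiIso_comp _ _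
  have h5 : QuasiIso ((tensL F P).map ((Res.q S).app L) ≫ (tensR F L).map α) := by
    have e' : (tensR F ((Res.R S).obj L)).map α ≫ (tensL F Q).map ((Res.q S).app L) =
        (tensL F P).map ((Res.q S).app L) ≫ (tensR F L).map α := e
    rwa [e'] at h4
  exact quasiIso_of_comp_left ((tensL F P).map ((Res.q S).app L)) _

/-- The resolution of pairs. -/
noncomputable def resolution₂ :
    FunctorialRes ((HomologicalComplex.quasiIso C (ComplexShape.up ℤ)).prod
      (HomologicalComplex.quasiIso C (ComplexShape.up ℤ))) where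
  good X := FlatR F X.1 ∧ FlatR F X.2
  R := (Res.R S).prod (Res.R S)
  q := NatTrans.prod (Res.q S) (Res.q S)
  good_R X := ⟨flatR_R F S X.1, flatR_R F S X.2⟩
  q_mem X := ⟨(resolution F S hS).q_mem X.1, (resolution F S hS).q_mem X.2⟩
  map_mem f hf := ⟨(resolution F S hS).map_mem f.1 hf.1, (resolution F S hS).map_mem f.2 hf.2⟩

end Pairs

end Groth.Agent.KFlat
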