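import Groth.Agent.KFlat.LBase
import Groth.Prelude.Def_DTen5
import Groth.Prelude.Def_DTen6

/-!
Derived base change is monoidal: `(X ⊗ K) ⊗_R R' ≅ (X ⊗_R R') ⊗ (K ⊗_R R')`, via `resPF`; derived internal hom
and restriction of scalars.
-/

set_option autoImplicit false

universe u

open CategoryTheory CategoryTheory.Limits MonoidalCategory HomologicalComplex

attribute [local instance] HasDerivedCategory.standard

namespace Groth.Agent.KFlat.BaseTen

variable {R R' : Type u} [CommRing R] [CommRing R'] (φ : R →+* R')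

lemma unit_δ (M N : ModuleCat.{u} R) :
    (ModuleCat.extendRestrictScalarsAdj.{u, u, u} φ).unit.app (M ⊗ N) ≫
        (DTen.resM φ).map (Functor.OplaxMonoidal.δ (DTen.extM φ) M N) =
      ((ModuleCat.extendRestrictScalarsAdj.{u, u, u} φ).unit.app M ⊗ₘ
          (ModuleCat.extendRestrictScalarsAdj.{u, u, u} φ).unit.app N) ≫
        DTen.resTen₀app φ ((DTen.extM φ).obj M) ((DTen.extM φ).obj N) :=
  ModuleCat.MonoidalCategory.tensor_ext (fun _ _ => rfl)

lemma unitCx_extTenCxIso (X K : DRing.Cx R) :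
    (DTen.unitCx φ).app (X ⊗ K) ≫ (DTen.resCx φ).map (DTen.extTenCxIso φ X K).hom =
      ((DTen.unitCx φ).app X ⊗ₘ (DTen.unitCx φ).app K) ≫
        DTen.resTenCx φ ((DTen.extCx φ).obj X) ((DTen.extCx φ).obj K) := by
  refine HomologicalComplex.hom_ext _ _ fun n => mapBifunctor.hom_ext fun p q h => ?_
  have hl : ιTensorObj X K p q n h ≫ ((DTen.unitCx φ).app (X ⊗ K)).f n ≫
      ((DTen.resCx φ).map (DTen.extTenCxIso φ X K).hom).f n =
        ((ModuleCat.extendRestrictScalarsAdj.{u, u, u} φ).unit.app (X.X p ⊗ K.X q) ≫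
          (DTen.resM φ).map (Functor.OplaxMonoidal.δ (DTen.extM φ) (X.X p) (K.X q))) ≫
            (DTen.resM φ).map (ιTensorObj ((DTen.extCx φ).obj X) ((DTen.extCx φ).obj K) p q n h) := by
    refine (Category.assoc _ _ _).symm.trans ?_
    refine (congrArg (fun t => t ≫ _)
      ((ModuleCat.extendRestrictScalarsAdj.{u, u, u} φ).unit.naturality (ιTensorObj X K p q n h))).trans ?_
    refine (Category.assoc _ _ _).trans ?_
    refine Eq.trans ?_ (Category.assoc _ _ _).symm
    refine congrArg (fun t => _ ≫ t) ?_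
    refine ((DTen.resM φ).map_comp _ _).symm.trans ?_
    refine Eq.trans ?_ ((DTen.resM φ).map_comp _ _)
    exact (DTen.resM φ).congr_map (DTen.map_ι_extTenCxIso_hom φ X K p q n h)
  have hr : ιTensorObj X K p q n h ≫ ((DTen.unitCx φ).app X ⊗ₘ (DTen.unitCx φ).app K).f n ≫
      (DTen.resTenCx φ ((DTen.extCx φ).obj X) ((DTen.extCx φ).obj K)).f n =
        (((ModuleCat.extendRestrictScalarsAdj.{u, u, u} φ).unit.app (X.X p) ⊗ₘ
          (ModuleCat.extendRestrictScalarsAdj.{u, u, u} φ).unit.app (K.X q)) ≫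
          DTen.resTen₀app φ ((DTen.extM φ).obj (X.X p)) ((DTen.extM φ).obj (K.X q))) ≫
            (DTen.resM φ).map (ιTensorObj ((DTen.extCx φ).obj X) ((DTen.extCx φ).obj K) p q n h) := by
    refine (Category.assoc _ _ _).symm.trans ?_
    refine (congrArg (fun t => t ≫ _) (ι_mapBifunctorMap ((DTen.unitCx φ).app X) ((DTen.unitCx φ).app K)
      (curriedTensor (ModuleCat.{u} R)) (ComplexShape.up ℤ) p q n h)).trans ?_
    simp only [curriedTensor_map_app, curriedTensor_obj_map, Category.assoc, tensorHom_def]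
    refine congrArg (fun t => _ ≫ t) (congrArg (fun t => _ ≫ t) ?_)
    exact DTen.ι_resTenCx φ ((DTen.extCx φ).obj X) ((DTen.extCx φ).obj K) p q n h
  exact hl.trans ((congrArg (fun t => t ≫ _) (unit_δ φ (X.X p) (K.X q))).trans hr.symm)

variable [DTen.HasLTen R] [DTen.HasLTen R'] [DTen.HasLBase φ] [DTen.HasResTen φ] [DTen.ResLegIso φ]

/-- `X ⊗ K ⟶ res ((X ⊗_R R') ⊗ (K ⊗_R R'))`, natural in the pair. -/
noncomputable def c : DTen.LTen₂ R ⟶ ((DTen.LBase φ).prod (DTen.LBase φ)) ⋙ DTen.LTenRes φ where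
  app Y := (DTen.LTen₂ R).map (Prod.mkHom ((DTen.baseAdj φ).unit.app Y.1) ((DTen.baseAdj φ).unit.app Y.2)) ≫
    (DTen.resPF φ).app ((DTen.LBase φ).obj Y.1, (DTen.LBase φ).obj Y.2)
  naturality {Y Z} f := by
    have e1 := (DTen.baseAdj φ).unit.naturality f.1
    have e2 := (DTen.baseAdj φ).unit.naturality f.2
    have e3 := (DTen.resPF φ).naturality (Prod.mkHom ((DTen.LBase φ).map f.1) ((DTen.LBase φ).map f.2))
    dsimp at e1 e2 e3 ⊢
    rw [Category.assoc, ← e3, ← Category.assoc, ← Category.assoc, ← Functor.map_comp, ← Functor.map_comp]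
    congr 2
    exact Prod.ext e1 e2

/-- Monoidality of derived base change. -/
noncomputable def β : DTen.LTen₂ R ⋙ DTen.LBase φ ⟶ ((DTen.LBase φ).prod (DTen.LBase φ)) ⋙ DTen.LTen₂ R' where
  app Y := ((DTen.baseAdj φ).homEquiv _ _).symm ((c φ).app Y)
  naturality {Y Z} f := by
    refine ((DTen.baseAdj φ).homEquiv _ _).injective ?_
    refine (((DTen.baseAdj φ).homEquiv_naturality_left _ _).trans
      (congrArg (fun t => _ ≫ t) (Equiv.apply_symm_apply _ _))).trans ?_
    refine Eq.trans ?_ (((DTen.baseAdj φ).homEquiv_naturality_right _ _).trans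
      (congrArg (fun t => t ≫ _) (Equiv.apply_symm_apply _ _))).symm
    exact (c φ).naturality f

/-- On complexes, the monoidality of derived base change is that of extension of scalars. -/
lemma β_baseCmp (X K : DRing.Cx R) :
    (β φ).app (DerivedCategory.Q.obj X, DerivedCategory.Q.obj K) ≫
      ((DTen.LTen₂ R').map (X := ((DTen.LBase φ).obj (DerivedCategory.Q.obj X), (DTen.LBase φ).obj (DerivedCategory.Q.obj K)))
        (Y := (DerivedCategory.Q.obj ((DTen.extCx φ).obj X), DerivedCategory.Q.obj ((DTen.extCx φ).obj K)))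
        (Prod.mkHom ((DTen.baseCmp φ).app X) ((DTen.baseCmp φ).app K)) ≫
          (DTen.ε R').app ((DTen.extCx φ).obj X, (DTen.extCx φ).obj K)) =
      (DTen.LBase φ).map ((DTen.ε R).app (X, K)) ≫ (DTen.baseCmp φ).app (X ⊗ K) ≫
        DerivedCategory.Q.map (DTen.extTenCxIso φ X K).hom := by
  let bb : ((DTen.LBase φ).obj (DerivedCategory.Q.obj X), (DTen.LBase φ).obj (DerivedCategory.Q.obj K)) ⟶
      (DerivedCategory.Q.obj ((DTen.extCx φ).obj X), DerivedCategory.Q.obj ((DTen.extCx φ).obj K)) :=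
    Prod.mkHom ((DTen.baseCmp φ).app X) ((DTen.baseCmp φ).app K)
  refine ((DTen.baseAdj φ).homEquiv _ _).injective ?_
  refine (((DTen.baseAdj φ).homEquiv_naturality_right _ _).trans
    (congrArg (fun t => t ≫ _) (Equiv.apply_symm_apply _ _))).trans ?_
  refine Eq.trans ?_ (((DTen.baseAdj φ).homEquiv_naturality_left _ _).trans
    (congrArg (fun t => _ ≫ t) ((DTen.baseAdj φ).homEquiv_unit _ _ _))).symm
  have e1 : (DTen.baseAdj φ).unit.app (DerivedCategory.Q.obj (X ⊗ K)) ≫
      (DRing.restrictD φ).map ((DTen.baseCmp φ).app (X ⊗ K) ≫ DerivedCategory.Q.map (DTen.extTenCxIso φ X K).hom) =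
      DerivedCategory.Q.map ((DTen.unitCx φ).app (X ⊗ K) ≫ (DTen.resCx φ).map (DTen.extTenCxIso φ X K).hom) ≫
        (DTen.resFactors φ).inv.app _ := by
    rw [Functor.map_comp]
    refine (Category.assoc _ _ _).symm.trans ?_
    refine (congrArg (fun t => t ≫ _) (DTen.baseCmp_fac φ (X ⊗ K))).trans ?_
    dsimp only [DTen.baseγ]
    rw [Category.assoc, Functor.map_comp, Category.assoc]
    exact congrArg (fun t => _ ≫ t) ((DTen.resFactors φ).inv.naturality (DTen.extTenCxIso φ X K).hom).symm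
  refine Eq.trans ?_ (congrArg (fun t => (DTen.ε R).app (X, K) ≫ t) e1).symm
  rw [unitCx_extTenCxIso]
  have e2 : (DRing.restrictD φ).map ((DTen.ε R').app ((DTen.extCx φ).obj X, (DTen.extCx φ).obj K)) =
      (DTen.resβB φ).app ((DTen.extCx φ).obj X, (DTen.extCx φ).obj K) ≫ (DTen.resFactors φ).inv.app _ := by
    dsimp [DTen.resβB]
    rw [Category.assoc, Iso.hom_inv_id_app]
    exact (Category.comp_id _).symm
  have e3 := (DTen.resPF φ).naturality bb
  have e4 := DTen.resPF_fac φ ((DTen.extCx φ).obj X, (DTen.extCx φ).obj K)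
  have e5 := (DTen.ε R).naturality (Prod.mkHom ((DTen.unitCx φ).app X) ((DTen.unitCx φ).app K))
  dsimp [c, DTen.resβA, bb] at e2 e3 e4 e5 ⊢
  rw [Functor.map_comp, Category.assoc, ← reassoc_of% e3, e2, reassoc_of% e4, ← Functor.map_comp_assoc,
    ← Functor.map_comp_assoc]
  erw [prod_comp, prod_comp]
  have e6 : ∀ Z : DRing.Cx R, ((DTen.baseAdj φ).unit.app (DerivedCategory.Q.obj Z) ≫
      (DRing.restrictD φ).map ((DTen.baseCmp φ).app Z)) ≫ (DTen.resFactors φ).hom.app ((DTen.extCx φ).obj Z) =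
      DerivedCategory.Q.map ((DTen.unitCx φ).app Z) := fun Z => by
    rw [DTen.baseCmp_fac]
    dsimp [DTen.baseγ]
    rw [Category.assoc, Iso.inv_hom_id_app]
    exact Category.comp_id _
  dsimp at e6 ⊢
  rw [e6 X, e6 K, reassoc_of% e5]
  simp only [Functor.map_comp, Category.assoc, tensorHom_def]

lemma isIso_β (Y : Dual.D R × Dual.D R) : IsIso ((β φ).app Y) := by
  refine (res₂ R).isIso_app (DTen.QQ R) (β φ) (fun Z hZ => ?_) Y
  obtain ⟨X, K⟩ := Z
  have hb1 := LBase.isIso_baseCmp φ X hZ.1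
  have hb2 := LBase.isIso_baseCmp φ K hZ.2
  have hb := LBase.isIso_baseCmp φ (X ⊗ K) (isKFlat_tensor hZ.1 hZ.2)
  have hε := isIso_ε X K (Or.inl hZ.1)
  have hε' := isIso_ε ((DTen.extCx φ).obj X) ((DTen.extCx φ).obj K) (Or.inl (isKFlat_ext φ hZ.1))
  let bb : ((DTen.LBase φ).obj (DerivedCategory.Q.obj X), (DTen.LBase φ).obj (DerivedCategory.Q.obj K)) ⟶
      (DerivedCategory.Q.obj ((DTen.extCx φ).obj X), DerivedCategory.Q.obj ((DTen.extCx φ).obj K)) :=
    Prod.mkHom ((DTen.baseCmp φ).app X) ((DTen.baseCmp φ).app K)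
  have : IsIso bb := (isIso_prod_iff _ _).2 ⟨hb1, hb2⟩
  have key := β_baseCmp φ X K
  have h2 : IsIso ((DTen.LTen₂ R').map bb ≫ (DTen.ε R').app ((DTen.extCx φ).obj X, (DTen.extCx φ).obj K)) :=
    IsIso.comp_isIso' (Functor.map_isIso _ _) hε'
  have h3 : IsIso ((DTen.LBase φ).map ((DTen.ε R).app (X, K)) ≫ (DTen.baseCmp φ).app (X ⊗ K) ≫
      DerivedCategory.Q.map (DTen.extTenCxIso φ X K).hom) :=
    IsIso.comp_isIso' (@Functor.map_isIso _ _ _ _ _ _ (DTen.LBase φ) _ hε)
      (IsIso.comp_isIso' hb (Functor.map_isIso DerivedCategory.Q _))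
  exact @IsIso.of_isIso_fac_right _ _ _ _ _ _ _ _ h2 h3 key

/-- The adjunct of `g : (X ⊗_R R') ⊗ (K ⊗_R R') ⟶ M`. -/
lemma bijective_comp_c [DTen.HasLBase φ] (X K : Dual.D R) (M : Dual.D R') :
    Function.Bijective fun g : (DTen.LTen₂ R').obj ((DTen.LBase φ).obj X, (DTen.LBase φ).obj K) ⟶ M =>
      (c φ).app (X, K) ≫ (DRing.restrictD φ).map g := by
  have := isIso_β φ (X, K)
  have h : (fun g : (DTen.LTen₂ R').obj ((DTen.LBase φ).obj X, (DTen.LBase φ).obj K) ⟶ M =>
      (c φ).app (X, K) ≫ (DRing.restrictD φ).map g) =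
      fun g => (DTen.baseAdj φ).homEquiv _ _ ((β φ).app (X, K) ≫ g) := funext fun g => by
    refine Eq.trans ?_ ((DTen.baseAdj φ).homEquiv_naturality_right _ _).symm
    exact congrArg (fun t => t ≫ (DRing.restrictD φ).map g) (Equiv.apply_symm_apply _ _).symm
  rw [h]
  exact ((asIso ((β φ).app (X, K))).symm.homFromEquiv.trans ((DTen.baseAdj φ).homEquiv _ _)).bijective

variable [DTen.HasRHom R] [DTen.HasRHom R']

/-- `RHom` over `R'` out of a base change restricts to `RHom` over `R`. -/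
lemma isIso_rhomBC (K : Dual.D R) (M : Dual.D R') : IsIso (DTen.rhomBC φ K M) := by
  refine isIso_of_yoneda_map_bijective _ fun X => ?_
  let e₁ := ((DTen.baseAdj φ).homEquiv X ((DTen.RHomR R' ((DTen.LBase φ).obj K)).obj M)).symm
  let e₂ := ((DTen.rhomAdj R' ((DTen.LBase φ).obj K)).homEquiv ((DTen.LBase φ).obj X) M).symm
  let e₃ := Equiv.ofBijective _ (bijective_comp_c φ X K M)
  let e₄ := (DTen.rhomAdj R K).homEquiv X ((DRing.restrictD φ).obj M)
  have h : (fun f : X ⟶ (DRing.restrictD φ).obj ((DTen.RHomR R' ((DTen.LBase φ).obj K)).obj M) =>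
      f ≫ DTen.rhomBC φ K M) = fun f => e₄ (e₃ (e₂ (e₁ f))) := funext fun f => by
    obtain ⟨g, rfl⟩ : ∃ g, f = (DTen.baseAdj φ).homEquiv _ _ g := ⟨e₁ f, (Equiv.apply_symm_apply _ _).symm⟩
    simp only [e₁, Equiv.symm_apply_apply]
    refine e₄.symm_apply_eq.1 ?_
    refine ((DTen.rhomAdj R K).homEquiv_naturality_left_symm _ _).trans ?_
    erw [Equiv.symm_apply_apply]
    simp only [e₂, e₃, Equiv.ofBijective_apply]
    erw [Adjunction.homEquiv_counit, Adjunction.homEquiv_unit]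
    have e5 := (DTen.resPF φ).naturality (Prod.mkHom g (𝟙 ((DTen.LBase φ).obj K)))
    dsimp [DTen.rhomBCCore, c] at e5 ⊢
    rw [Functor.map_comp, Category.assoc, ← reassoc_of% e5, ← Functor.map_comp_assoc, ← Functor.map_comp_assoc]
    congr 2
    simp [prod_comp, Prod.mkHom]
  exact h.symm ▸ (((e₁.trans e₂).trans e₃).trans e₄).bijective

end Groth.Agent.KFlat.BaseTen
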