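import Groth.Agent.KFlat.BaseChange
import Groth.Agent.KFlat.DTen
import Groth.Agent.LBC.Basic
import Groth.Prelude.Def_DTen4
import Mathlib.CategoryTheory.Functor.Derived.Adjunction
import Mathlib.CategoryTheory.Functor.Derived.PointwiseRightDerived

/-!
Derived base change is left adjoint to restriction; it is computed by K-flat complexes.
-/

set_option autoImplicit false

universe u

open CategoryTheory CategoryTheory.Limits MonoidalCategory HomologicalComplex

attribute [local instance] HasDerivedCategory.standard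

namespace Groth.Agent.KFlat.LBase

variable {R A : Type u} [CommRing R] [CommRing A] (φ : R →+* A)

lemma inverts : (res R).Inverts (DTen.extCx φ ⋙ DerivedCategory.Q) := fun _ _ f hX hY hf =>
  isIso_Q_map _ (LBC.quasiIso_ext_of_kFlat φ hX hY f ((mem_quasiIso_iff _).1 hf))

/-- Extension and restriction on complexes are adjoint, with unit `DTen.unitCx`. -/
noncomputable def adjCx : DTen.extCx φ ⊣ DTen.resCx φ where
  unit := DTen.unitCx φ
  counit :=
    { app := fun L =>
        { f := fun i => (ModuleCat.extendRestrictScalarsAdj.{u, u, u} φ).counit.app (L.X i)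
          comm' := fun i j _ => ((ModuleCat.extendRestrictScalarsAdj.{u, u, u} φ).counit.naturality (L.d i j)).symm }
      naturality := fun _ _ f => HomologicalComplex.hom_ext _ _ fun i =>
        (ModuleCat.extendRestrictScalarsAdj.{u, u, u} φ).counit.naturality (f.f i) }
  left_triangle_components X := HomologicalComplex.hom_ext _ _ fun i =>
    (ModuleCat.extendRestrictScalarsAdj.{u, u, u} φ).left_triangle_components (X.X i)
  right_triangle_components Y := HomologicalComplex.hom_ext _ _ fun i =>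
    (ModuleCat.extendRestrictScalarsAdj.{u, u, u} φ).right_triangle_components (Y.X i)

variable (G : Dual.D R ⥤ Dual.D A) (α : DerivedCategory.Q ⋙ G ⟶ DTen.extCx φ ⋙ DerivedCategory.Q)
  (hα : ∀ K, DRing.IsKFlat R K → IsIso (α.app K))

include hα in
lemma isLeftDerived : G.IsLeftDerivedFunctor α (DTen.qis R) :=
  (res R).isLeftDerivedFunctor_of_isIso DerivedCategory.Q (inverts φ) G α hα

include hα in
lemma isLeftDerived_comp : (G ⋙ DRing.restrictD φ).IsLeftDerivedFunctor
    ((Functor.associator _ _ _).inv ≫ Functor.whiskerRight α (DRing.restrictD φ)) (DTen.qis R) :=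
  (res R).isLeftDerivedFunctor_of_isIso DerivedCategory.Q
    (fun X Y f hX hY hf => by
      have := inverts φ f hX hY hf
      exact Functor.map_isIso (DRing.restrictD φ) ((DTen.extCx φ ⋙ DerivedCategory.Q).map f)) _ _
    (fun K hK => by
      have := hα K hK
      exact IsIso.comp_isIso' (inferInstanceAs (IsIso (𝟙 _))) (Functor.map_isIso (DRing.restrictD φ) (α.app K)))

lemma isRightDerived : (DRing.restrictD φ).IsRightDerivedFunctor (DTen.resFactors φ).inv (DTen.qis A) :=
  Functor.isRightDerivedFunctor_of_inverts (DTen.qis A) (DRing.restrictD φ) (DTen.resFactors φ)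

lemma isRightDerived_comp : (DRing.restrictD φ ⋙ G).IsRightDerivedFunctor
    (Functor.whiskerRight (DTen.resFactors φ).inv G ≫ (Functor.associator _ _ _).hom) (DTen.qis A) :=
  Functor.isRightDerivedFunctor_of_inverts (DTen.qis A) (DRing.restrictD φ ⋙ G)
    ((Functor.associator _ _ _).symm ≪≫ Functor.isoWhiskerRight (DTen.resFactors φ) G)

/-- The derived adjunction. -/
noncomputable def adj : G ⊣ DRing.restrictD φ :=
  haveI := isLeftDerived φ G α hα
  haveI := isLeftDerived_comp φ G α hα
  haveI := isRightDerived φ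
  haveI := isRightDerived_comp φ G
  (adjCx φ).derived (DTen.qis R) (DTen.qis A) α (DTen.resFactors φ).inv

lemma adj_unit (K : DRing.Cx R) :
    (adj φ G α hα).unit.app (DerivedCategory.Q.obj K) ≫ (DRing.restrictD φ).map (α.app K) =
      DerivedCategory.Q.map ((DTen.unitCx φ).app K) ≫ (DTen.resFactors φ).inv.app ((DTen.extCx φ).obj K) :=
  haveI := isLeftDerived φ G α hα
  haveI := isLeftDerived_comp φ G α hα
  haveI := isRightDerived φ
  haveI := isRightDerived_comp φ G
  (adjCx φ).derivedη_fac_app (DTen.qis R) α (DTen.resFactors φ).inv K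

omit G α hα

/-- The model of derived base change. -/
noncomputable abbrev G₀ : Dual.D R ⥤ Dual.D A := (res R).model DerivedCategory.Q (inverts φ)

/-- Its counit. -/
noncomputable abbrev α₀ : DerivedCategory.Q ⋙ G₀ φ ⟶ DTen.extCx φ ⋙ DerivedCategory.Q :=
  (res R).modelCounit DerivedCategory.Q (inverts φ)

lemma isIso_α₀ (K : DRing.Cx R) (hK : DRing.IsKFlat R K) : IsIso ((α₀ φ).app K) :=
  (res R).isIso_modelCounit DerivedCategory.Q (inverts φ) K hK

/-- The adjunction for the model. -/
noncomputable abbrev adj₀ : G₀ φ ⊣ DRing.restrictD φ := adj φ (G₀ φ) (α₀ φ) (isIso_α₀ φ)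

lemma hasLBase : DTen.HasLBase φ := ⟨(adj₀ φ).isRightAdjoint⟩

/-- The canonical comparison is an isomorphism at K-flat complexes. -/
lemma isIso_baseCmp [DTen.HasLBase φ] (K : DRing.Cx R) (hK : DRing.IsKFlat R K) :
    IsIso ((DTen.baseCmp φ).app K) := by
  let w := Adjunction.leftAdjointUniq (DTen.baseAdj φ) (adj₀ φ)
  have e : (DTen.baseCmp φ).app K = w.hom.app (DerivedCategory.Q.obj K) ≫ (α₀ φ).app K := by
    refine ((DTen.baseAdj φ).homEquiv _ _).injective ?_
    rw [Adjunction.homEquiv_unit, Adjunction.homEquiv_unit]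
    refine (DTen.baseCmp_fac φ K).trans ?_
    rw [Functor.map_comp, Adjunction.unit_leftAdjointUniq_hom_app_assoc]
    exact (adj_unit φ (G₀ φ) (α₀ φ) (isIso_α₀ φ) K).symm
  have := isIso_α₀ φ K hK
  rw [e]
  exact IsIso.comp_isIso

section LBaseChange

variable [DRing.HasLBaseChange φ]

/-- The counit of `DRing.LBaseChange` on complexes. -/
noncomputable def αh : DerivedCategory.Q ⋙ DRing.LBaseChange φ ⟶ DTen.extCx φ ⋙ DerivedCategory.Q :=
  Functor.whiskerRight (DerivedCategory.quotientCompQhIso (ModuleCat.{u} R)).inv (DRing.LBaseChange φ) ≫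
    LBC.counit φ ≫ (LBC.ΦIso φ).hom

lemma isIso_αh (K : DRing.Cx R) (hK : DRing.IsKFlat R K) : IsIso ((αh φ).app K) := by
  have := LBC.isIso_counit_of_kFlat φ K hK
  exact IsIso.comp_isIso' (Functor.map_isIso (DRing.LBaseChange φ) _) (IsIso.comp_isIso' this inferInstance)

/-- Derived base change is left adjoint to restriction. -/
noncomputable def adjLBC : DRing.LBaseChange φ ⊣ DRing.restrictD φ := adj φ _ (αh φ) (isIso_αh φ)

end LBaseChange

end Groth.Agent.KFlat.LBase

namespace Groth.Agent.KFlat.Mix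

variable {R A : Type u} [CommRing R] [CommRing A] (φ : R →+* A)

variable (R A) in
/-- Functorial resolutions of mixed pairs. -/
noncomputable def res : FunctorialRes (DTen.qisMix R A) where
  good X := DRing.IsKFlat R X.1 ∧ DRing.IsKFlat A X.2
  R := (KFlat.res R).R.prod (KFlat.res A).R
  q := NatTrans.prod (KFlat.res R).q (KFlat.res A).q
  good_R X := ⟨(KFlat.res R).good_R X.1, (KFlat.res A).good_R X.2⟩
  q_mem X := ⟨(KFlat.res R).q_mem X.1, (KFlat.res A).q_mem X.2⟩
  map_mem f hf := ⟨(KFlat.res R).map_mem f.1 hf.1, (KFlat.res A).map_mem f.2 hf.2⟩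

lemma inverts : (res R A).Inverts (DTen.mix₂ φ) := by
  rintro ⟨K, N⟩ ⟨K', N'⟩ ⟨f, g⟩ ⟨hK, hN⟩ ⟨hK', hN'⟩ ⟨hf, hg⟩
  apply isIso_Q_map
  have h1 := quasiIso_whiskerRight hN _ (LBC.quasiIso_ext_of_kFlat φ hK hK' f ((mem_quasiIso_iff _).1 hf))
  have h2 := quasiIso_whiskerLeft (isKFlat_ext φ hK') g ((mem_quasiIso_iff _).1 hg)
  exact quasiIso_comp ((DTen.extCx φ).map f ▷ N) ((DTen.extCx φ).obj K' ◁ g)

lemma hasLTenMix : DTen.HasLTenMix φ := (res R A).hasLeftDerivedFunctor (inverts φ)

lemma isIso_εMix [DTen.HasLTenMix φ] (K : DRing.Cx R) (N : DRing.Cx A) (hK : DRing.IsKFlat R K)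
    (hN : DRing.IsKFlat A N) : IsIso ((DTen.εMix φ).app (K, N)) :=
  (res R A).isIso_counit (DTen.QMix R A) (inverts φ) (DTen.LTenMix φ) (DTen.εMix φ) (K, N) ⟨hK, hN⟩

/-- The splitting of the mixed derived tensor product is an isomorphism. -/
lemma isIso_split [DTen.HasLTen A] [DTen.HasLBase φ] [DTen.HasLTenMix φ] (Y : Dual.D R × Dual.D A) :
    IsIso ((DTen.split φ).app Y) := by
  refine (res R A).isIso_app (DTen.QMix R A) (DTen.split φ) (fun X hX => ?_) Y
  have := isIso_εMix φ X.1 X.2 hX.1 hX.2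
  have := LBase.isIso_baseCmp φ X.1 hX.1
  have := isIso_ε ((DTen.extCx φ).obj X.1) X.2 (Or.inr hX.2)
  have : IsIso (Prod.mkHom ((DTen.baseCmp φ).app X.1) (𝟙 (DerivedCategory.Q.obj X.2))) :=
    (isIso_prod_iff _ _).2 ⟨inferInstance, inferInstance⟩
  have : IsIso ((DTen.split φ).app ((DTen.QMix R A).obj X) ≫ (DTen.εMix φ).app X) := by
    rw [DTen.split_fac]
    dsimp [DTen.splitβ]
    infer_instance
  exact IsIso.of_isIso_comp_right _ ((DTen.εMix φ).app X)

end Groth.Agent.KFlat.Mix
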