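import Groth.Agent.KFlat.LBase
import Groth.Prelude.Def_DTen6

/-!
The two legs of the iterated change of rings are isomorphisms.
-/

set_option autoImplicit false

universe u

open CategoryTheory CategoryTheory.Limits MonoidalCategory HomologicalComplex

attribute [local instance] HasDerivedCategory.standard

namespace Groth.Agent.KFlat.Mix

variable {A B C : Type u} [CommRing A] [CommRing B] [CommRing C] (φ : A →+* B) (ψ : B →+* C)

variable (A B C) in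
/-- Functorial resolutions of mixed triples. -/
noncomputable def res₃ : FunctorialRes (DTen.qisMix₃ A B C) where
  good X := DRing.IsKFlat A X.1 ∧ DRing.IsKFlat B X.2.1 ∧ DRing.IsKFlat C X.2.2
  R := (KFlat.res A).R.prod (res B C).R
  q := NatTrans.prod (KFlat.res A).q (res B C).q
  good_R X := ⟨(KFlat.res A).good_R X.1, (res B C).good_R X.2⟩
  q_mem X := ⟨(KFlat.res A).q_mem X.1, (res B C).q_mem X.2⟩
  map_mem f hf := ⟨(KFlat.res A).map_mem f.1 hf.1, (res B C).map_mem f.2 hf.2⟩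

lemma isKFlat_mixT {M : DRing.Cx A} {N : DRing.Cx B} (hM : DRing.IsKFlat A M) (hN : DRing.IsKFlat B N) :
    DRing.IsKFlat B ((DTen.mixT φ).obj (M, N)) :=
  isKFlat_tensor (isKFlat_ext φ hM) hN

lemma inverts₃ : (res₃ A B C).Inverts (DTen.mix₃ φ ψ) := by
  rintro ⟨M, N, K⟩ ⟨M', N', K'⟩ ⟨f, g, k⟩ ⟨hM, hN, hK⟩ ⟨hM', hN', hK'⟩ ⟨hf, hg, hk⟩
  have h1 := quasiIso_whiskerRight hN _ (LBC.quasiIso_ext_of_kFlat φ hM hM' f ((mem_quasiIso_iff _).1 hf))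
  have h2 := quasiIso_whiskerLeft (isKFlat_ext φ hM') g ((mem_quasiIso_iff _).1 hg)
  have h3 : QuasiIso ((DTen.mixT φ).map (Prod.mkHom f g)) :=
    quasiIso_comp ((DTen.extCx φ).map f ▷ N) ((DTen.extCx φ).obj M' ◁ g)
  exact inverts ψ (Prod.mkHom ((DTen.mixT φ).map (Prod.mkHom f g)) k) ⟨isKFlat_mixT φ hM hN, hK⟩
    ⟨isKFlat_mixT φ hM' hN', hK'⟩ ⟨(mem_quasiIso_iff _).2 h3, hk⟩

lemma isIso_leg₃ [DTen.HasLTenMix φ] [DTen.HasLTenMix ψ] [DTen.HasLTenMix (ψ.comp φ)] [DTen.HasLTenMix₃ φ ψ]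
    (Y : Dual.D A × (Dual.D B × Dual.D C)) :
    IsIso ((DTen.leg₃L φ ψ).app Y) ∧ IsIso ((DTen.leg₃R φ ψ).app Y) := by
  constructor
  · refine (res₃ A B C).isIso_app (DTen.QMix₃ A B C) (DTen.leg₃L φ ψ) (fun X hX => ?_) Y
    have := (res₃ A B C).isIso_counit (DTen.QMix₃ A B C) (inverts₃ φ ψ) (DTen.LTenMix₃ φ ψ) (DTen.εMix₃ φ ψ) X hX
    have h1 := isIso_εMix φ X.1 X.2.1 hX.1 hX.2.1
    have h2 := isIso_εMix ψ ((DTen.mixT φ).obj (X.1, X.2.1)) X.2.2 (isKFlat_mixT φ hX.1 hX.2.1) hX.2.2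
    have hp : IsIso (Prod.mkHom ((DTen.εMix φ).app (X.1, X.2.1)) (𝟙 (DerivedCategory.Q.obj X.2.2))) :=
      (isIso_prod_iff _ _).2 ⟨inferInstance, inferInstance⟩
    have : IsIso ((DTen.leg₃L φ ψ).app ((DTen.QMix₃ A B C).obj X) ≫ (DTen.εMix₃ φ ψ).app X) := by
      rw [DTen.leg₃L_fac]
      exact IsIso.comp_isIso' (@Functor.map_isIso _ _ _ _ _ _ (DTen.LTenMix ψ) _ hp) h2
    exact IsIso.of_isIso_comp_right _ ((DTen.εMix₃ φ ψ).app X)
  · refine (res₃ A B C).isIso_app (DTen.QMix₃ A B C) (DTen.leg₃R φ ψ) (fun X hX => ?_) Y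
    have := (res₃ A B C).isIso_counit (DTen.QMix₃ A B C) (inverts₃ φ ψ) (DTen.LTenMix₃ φ ψ) (DTen.εMix₃ φ ψ) X hX
    have h1 := isIso_εMix ψ X.2.1 X.2.2 hX.2.1 hX.2.2
    have h2 := isIso_εMix (ψ.comp φ) X.1 ((DTen.mixT ψ).obj (X.2.1, X.2.2)) hX.1 (isKFlat_mixT ψ hX.2.1 hX.2.2)
    have hp : IsIso (Prod.mkHom (𝟙 (DerivedCategory.Q.obj X.1)) ((DTen.εMix ψ).app (X.2.1, X.2.2))) :=
      (isIso_prod_iff _ _).2 ⟨inferInstance, inferInstance⟩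
    have : IsIso ((DTen.leg₃R φ ψ).app ((DTen.QMix₃ A B C).obj X) ≫ (DTen.εMix₃ φ ψ).app X) := by
      rw [DTen.leg₃R_fac]
      exact IsIso.comp_isIso' (@Functor.map_isIso _ _ _ _ _ _ (DTen.LTenMix (ψ.comp φ)) _ hp)
        (IsIso.comp_isIso' h2 (Functor.map_isIso DerivedCategory.Q _))
    exact IsIso.of_isIso_comp_right _ ((DTen.εMix₃ φ ψ).app X)

end Groth.Agent.KFlat.Mix
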