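import Groth.Agent.KFlat.Colim
import Mathlib.Algebra.Homology.HomotopyCategory.HomComplexSingle
import Mathlib.Algebra.Homology.HomotopyCategory.MappingCone
import Mathlib.CategoryTheory.Functor.OfSequence
import Mathlib.CategoryTheory.Comma.Arrow
import Mathlib.Algebra.Homology.HomologicalComplexAbelian
import Mathlib.CategoryTheory.Abelian.Refinements
import Mathlib.CategoryTheory.Filtered.Connected

/-!
Functorial resolutions of complexes by "cell complexes" built from a separating family `S`:
`P₀ = 0`, `P_{k+1}` is the cone of a map from a coproduct of shifted `S i` to `P_k` killing the kernel of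
`H(P_k) ⟶ H(G)`, and the resolution is the colimit.
-/

universe v u

open CategoryTheory CategoryTheory.Limits CochainComplex CochainComplex.HomComplex

namespace Groth.Agent.KFlat

variable {C : Type u} [Category.{v} C] [Abelian C] [HasCoproducts.{v} C]
  {κ : Type v} (S : κ → C)

namespace Res

variable (E : Arrow (CochainComplex C ℤ))

/-- The cells of one step: a cycle `s : S i ⟶ Pⁿ` together with a null homotopy `h` of its image in `G`. -/
abbrev Idx : Type v :=
  Σ (n : ℤ) (i : κ), { sh : (S i ⟶ E.left.X n) × (S i ⟶ E.right.X (n - 1)) //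
    sh.1 ≫ E.left.d n (n + 1) = 0 ∧ sh.2 ≫ E.right.d (n - 1) n = sh.1 ≫ E.hom.f n }

variable {S E}

/-- The complex of one cell. -/
noncomputable abbrev cell (x : Idx S E) : CochainComplex C ℤ := (singleFunctor C x.1).obj (S x.2.1)

/-- The attaching map of one cell. -/
noncomputable def att (x : Idx S E) : cell x ⟶ E.left :=
  HomologicalComplex.mkHomFromSingle x.2.2.1.1 fun k (hk : x.1 + 1 = k) => by
    subst hk
    exact x.2.2.2.1

/-- The null homotopy of one cell. -/
noncomputable def hom (x : Idx S E) : Cochain (cell x) E.right (-1) :=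
  Cochain.fromSingleMk x.2.2.1.2 (by omega)

lemma ofHom_att (x : Idx S E) :
    Cochain.ofHom (att x) = Cochain.fromSingleMk x.2.2.1.1 (add_zero x.1) := by
  apply (Cochain.fromSingleEquiv (add_zero x.1)).injective
  rw [Cochain.fromSingleEquiv_fromSingleMk]
  change (HomologicalComplex.singleObjXSelf (.up ℤ) x.1 _).inv ≫ _ = _
  rw [Cochain.ofHom_v, att]
  erw [HomologicalComplex.mkHomFromSingle_f]
  simp

lemma δ_hom (x : Idx S E) : δ (-1) 0 (hom x) = Cochain.ofHom (att x ≫ E.hom) := by
  rw [hom, Cochain.δ_fromSingleMk _ _ 0 x.1 (add_zero _), Cochain.ofHom_comp, ofHom_att,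
    ← Cochain.fromSingleMk_postcomp, x.2.2.2.2]

variable (S E)

/-- All the cells. -/
noncomputable abbrev cells : CochainComplex C ℤ := ∐ fun x : Idx S E => cell x

/-- The attaching map. -/
noncomputable def attach : cells S E ⟶ E.left := Sigma.desc att

/-- The coproduct of cells in each degree. -/
noncomputable def cellsXIsColimit (p : ℤ) :
    IsColimit ((HomologicalComplex.eval C (ComplexShape.up ℤ) p).mapCocone
      (colimit.cocone (Discrete.functor fun x : Idx S E => cell x))) :=
  isColimitOfPreserves _ (colimit.isColimit _)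

variable {S E} in
lemma cells_hom_ext {A : C} {p : ℤ} {f g : (cells S E).X p ⟶ A}
    (h : ∀ x, (Sigma.ι (fun x : Idx S E => cell x) x).f p ≫ f = (Sigma.ι (fun x : Idx S E => cell x) x).f p ≫ g) :
    f = g :=
  (cellsXIsColimit S E p).hom_ext fun ⟨x⟩ => h x

variable {S E} in
lemma cochain_ext {K : CochainComplex C ℤ} {n : ℤ} {α β : Cochain (cells S E) K n}
    (h : ∀ x, (Cochain.ofHom (Sigma.ι (fun x : Idx S E => cell x) x)).comp α (zero_add n) =
      (Cochain.ofHom (Sigma.ι (fun x : Idx S E => cell x) x)).comp β (zero_add n)) : α = β := by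
  ext p q hpq
  refine cells_hom_ext fun x => ?_
  have := Cochain.congr_v (h x) p q hpq
  simpa using this

/-- The null homotopy. -/
noncomputable def nullHomotopy : Cochain (cells S E) E.right (-1) :=
  Cochain.mk fun p q hpq => (cellsXIsColimit S E p).desc
    ⟨E.right.X q, Discrete.natTrans fun x => (hom x.as).v p q hpq⟩

@[simp]
lemma ι_nullHomotopy (x : Idx S E) :
    (Cochain.ofHom (Sigma.ι (fun x : Idx S E => cell x) x)).comp (nullHomotopy S E) (zero_add _) = hom x := by
  ext p q hpq
  simp only [Cochain.zero_cochain_comp_v, Cochain.ofHom_v, nullHomotopy, Cochain.mk_v]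
  exact (cellsXIsColimit S E p).fac _ ⟨x⟩

lemma δ_nullHomotopy : δ (-1) 0 (nullHomotopy S E) = Cochain.ofHom (attach S E ≫ E.hom) := by
  refine cochain_ext fun x => ?_
  rw [← δ_ofHom_comp, ι_nullHomotopy, δ_hom, ← Cochain.ofHom_comp, attach, Sigma.ι_desc_assoc]

/-- One step of the resolution. -/
noncomputable abbrev step : Arrow (CochainComplex C ℤ) :=
  Arrow.mk (mappingCone.desc (attach S E) (nullHomotopy S E) E.hom (δ_nullHomotopy S E))

/-- The inclusion into the next step. -/
noncomputable def incl : E ⟶ step S E :=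
  Arrow.homMk (mappingCone.inr (attach S E)) (𝟙 _) (by simp [step])

variable {S E} in
lemma ι_congr {n : ℤ} {i : κ}
    {a b : { sh : (S i ⟶ E.left.X n) × (S i ⟶ E.right.X (n - 1)) //
      sh.1 ≫ E.left.d n (n + 1) = 0 ∧ sh.2 ≫ E.right.d (n - 1) n = sh.1 ≫ E.hom.f n }} (h : a.1 = b.1) :
    Sigma.ι (fun x : Idx S E => cell x) ⟨n, i, a⟩ = Sigma.ι (fun x : Idx S E => cell x) ⟨n, i, b⟩ := by
  obtain rfl := Subtype.ext h
  rfl

variable {E} {E' E'' : Arrow (CochainComplex C ℤ)}

lemma idxMap_prop (u : E ⟶ E') (x : Idx S E) :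
    (x.2.2.1.1 ≫ u.left.f x.1) ≫ E'.left.d x.1 (x.1 + 1) = 0 ∧
      (x.2.2.1.2 ≫ u.right.f (x.1 - 1)) ≫ E'.right.d (x.1 - 1) x.1 =
        (x.2.2.1.1 ≫ u.left.f x.1) ≫ E'.hom.f x.1 := by
  obtain ⟨n, i, ⟨⟨s, h⟩, hs, hh⟩⟩ := x
  dsimp at hs hh ⊢
  constructor
  · rw [Category.assoc, u.left.comm, reassoc_of% hs, zero_comp]
  · rw [Category.assoc, u.right.comm, reassoc_of% hh, Category.assoc, ← HomologicalComplex.comp_f,
      ← HomologicalComplex.comp_f, Arrow.w u]

/-- Functoriality of cells. -/
abbrev idxMap (u : E ⟶ E') (x : Idx S E) : Idx S E' :=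
  ⟨x.1, x.2.1, ⟨(x.2.2.1.1 ≫ u.left.f x.1, x.2.2.1.2 ≫ u.right.f (x.1 - 1)), idxMap_prop S u x⟩⟩

/-- Functoriality of the cells. -/
noncomputable def cellsMap (u : E ⟶ E') : cells S E ⟶ cells S E' :=
  Sigma.desc fun x => Sigma.ι (fun y : Idx S E' => cell y) (idxMap S u x)

@[reassoc]
lemma attach_naturality (u : E ⟶ E') : attach S E ≫ u.left = cellsMap S u ≫ attach S E' := by
  refine Sigma.hom_ext _ _ fun x => ?_
  simp only [attach, cellsMap, Sigma.ι_desc_assoc, Sigma.ι_desc]
  apply (Cochain.ofHom_injective)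
  rw [Cochain.ofHom_comp, ofHom_att, ofHom_att, ← Cochain.fromSingleMk_postcomp]

lemma nullHomotopy_naturality (u : E ⟶ E') :
    (nullHomotopy S E).comp (Cochain.ofHom u.right) (add_zero _) =
      (Cochain.ofHom (cellsMap S u)).comp (nullHomotopy S E') (zero_add _) := by
  refine cochain_ext fun x => ?_
  rw [← Cochain.comp_assoc_of_first_is_zero_cochain, ι_nullHomotopy,
    ← Cochain.comp_assoc_of_first_is_zero_cochain, ← Cochain.ofHom_comp, cellsMap, Sigma.ι_desc,
    ι_nullHomotopy, hom, hom, ← Cochain.fromSingleMk_postcomp]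

/-- The left component of `stepMap`. -/
noncomputable def stepMapLeft (u : E ⟶ E') :
    mappingCone (attach S E) ⟶ mappingCone (attach S E') :=
  mappingCone.desc (attach S E)
    ((Cochain.ofHom (cellsMap S u)).comp (mappingCone.inl (attach S E')) (zero_add _))
    (u.left ≫ mappingCone.inr _) (by
      rw [δ_ofHom_comp, mappingCone.δ_inl, ← Cochain.ofHom_comp, attach_naturality_assoc])

/-- Functoriality of a step. -/
noncomputable def stepMap (u : E ⟶ E') : step S E ⟶ step S E' :=
  Arrow.homMk (stepMapLeft S u) u.right (by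
    refine HomologicalComplex.hom_ext _ _ fun p => ?_
    rw [mappingCone.ext_from_iff _ (p + 1) p rfl]
    constructor
    · simp only [step, stepMapLeft, Arrow.mk_hom, HomologicalComplex.comp_f,
        mappingCone.inl_v_desc_f_assoc, Cochain.zero_cochain_comp_v, Cochain.ofHom_v, Category.assoc,
        mappingCone.inl_v_desc_f]
      have := Cochain.congr_v (nullHomotopy_naturality S u) (p + 1) p (by omega)
      simpa using this.symm
    · simp only [step, stepMapLeft, Arrow.mk_hom, HomologicalComplex.comp_f,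
        mappingCone.inr_f_desc_f_assoc, Category.assoc, mappingCone.inr_f_desc_f]
      rw [← HomologicalComplex.comp_f, ← HomologicalComplex.comp_f, Arrow.w u])

lemma cellsMap_id : cellsMap S (𝟙 E) = 𝟙 (cells S E) := by
  refine Sigma.hom_ext _ _ fun x => ?_
  obtain ⟨n, i, ⟨⟨s, h⟩, hsh⟩⟩ := x
  rw [cellsMap, Sigma.ι_desc, Category.comp_id]
  exact ι_congr (Prod.ext (Category.comp_id s) (Category.comp_id h))

lemma cellsMap_comp (u : E ⟶ E') (w : E' ⟶ E'') : cellsMap S (u ≫ w) = cellsMap S u ≫ cellsMap S w := by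
  refine Sigma.hom_ext _ _ fun x => ?_
  obtain ⟨n, i, ⟨⟨s, h⟩, hsh⟩⟩ := x
  rw [cellsMap, cellsMap, cellsMap, Sigma.ι_desc, Sigma.ι_desc_assoc, Sigma.ι_desc]
  exact ι_congr (Prod.ext (Category.assoc s _ _).symm (Category.assoc h _ _).symm)

lemma incl_naturality (u : E ⟶ E') : u ≫ incl S E' = incl S E ≫ stepMap S u := by
  ext1
  · simp [incl, stepMap, stepMapLeft]
  · simp [incl, stepMap]

/-- The step endofunctor. -/
noncomputable def stepFunctor : Arrow (CochainComplex C ℤ) ⥤ Arrow (CochainComplex C ℤ) where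
  obj E := step S E
  map u := stepMap S u
  map_id E := by
    ext1
    · refine HomologicalComplex.hom_ext _ _ fun p => ?_
      dsimp [stepMap]
      rw [mappingCone.ext_from_iff _ (p + 1) p rfl]
      simp [stepMapLeft, cellsMap_id, step]
    · rfl
  map_comp u w := by
    ext1
    · refine HomologicalComplex.hom_ext _ _ fun p => ?_
      dsimp [stepMap]
      rw [mappingCone.ext_from_iff _ (p + 1) p rfl]
      simp [stepMapLeft, cellsMap_comp, step]
    · rfl

variable (G : CochainComplex C ℤ)

/-- The stages of the resolution of `G`, with their maps to `G`. -/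
noncomputable def stageData : ℕ → Σ P : CochainComplex C ℤ, (P ⟶ G)
  | 0 => ⟨HomologicalComplex.zero, 0⟩
  | (k + 1) => ⟨(step S (Arrow.mk (stageData k).2)).left, (step S (Arrow.mk (stageData k).2)).hom⟩

/-- The stages of the resolution of `G`. -/
noncomputable abbrev stage (k : ℕ) : Arrow (CochainComplex C ℤ) := Arrow.mk (stageData S G k).2

lemma stage_succ (k : ℕ) : stage S G (k + 1) = step S (stage S G k) := rfl

/-- Functoriality of the stages. -/
noncomputable def stageMap {G G' : CochainComplex C ℤ} (g : G ⟶ G') :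
    ∀ k, stage S G k ⟶ stage S G' k
  | 0 => Arrow.homMk (𝟙 _) g (by exact (Category.id_comp _).trans zero_comp.symm)
  | (k + 1) => stepMap S (stageMap g k)

lemma stageMap_right {G G' : CochainComplex C ℤ} (g : G ⟶ G') : ∀ k, (stageMap S g k).right = g
  | 0 => rfl
  | (k + 1) => stageMap_right g k

lemma stageMap_id : ∀ k, stageMap S (𝟙 G) k = 𝟙 _
  | 0 => by ext1 <;> rfl
  | (k + 1) => by
    rw [stageMap, stageMap_id k]
    exact (stepFunctor S).map_id _

lemma stageMap_comp {G G' G'' : CochainComplex C ℤ} (g : G ⟶ G') (g' : G' ⟶ G'') :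
    ∀ k, stageMap S (g ≫ g') k = stageMap S g k ≫ stageMap S g' k
  | 0 => by
    ext1
    · exact (Category.id_comp _).symm
    · rfl
  | (k + 1) => by
    rw [stageMap, stageMap_comp g g' k]
    exact (stepFunctor S).map_comp _ _

/-- The inclusion of a stage into the next one, on underlying complexes. -/
noncomputable abbrev inclLeft (k : ℕ) : (stage S G k).left ⟶ (stage S G (k + 1)).left :=
  mappingCone.inr (attach S (stage S G k))

/-- The sequence of underlying complexes. -/
noncomputable def seqLeft : ℕ ⥤ CochainComplex C ℤ :=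
  Functor.ofSequence (X := fun k => (stage S G k).left) (inclLeft S G)

lemma seqLeft_map_succ (k : ℕ) : (seqLeft S G).map (homOfLE (Nat.le_add_right k 1)) = inclLeft S G k :=
  Functor.ofSequence_map_homOfLE_succ (X := fun k => (stage S G k).left) (inclLeft S G) k

lemma inclLeft_hom (k : ℕ) : inclLeft S G k ≫ (stage S G (k + 1)).hom = (stage S G k).hom :=
  mappingCone.inr_desc (attach S (stage S G k)) (nullHomotopy S _) _ (δ_nullHomotopy S _)

/-- Functoriality of the sequence. -/
noncomputable def seqMap {G G' : CochainComplex C ℤ} (g : G ⟶ G') : seqLeft S G ⟶ seqLeft S G' :=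
  NatTrans.ofSequence (fun k => (stageMap S g k).left) fun k => by
    rw [seqLeft_map_succ, seqLeft_map_succ]
    exact (congrArg CategoryTheory.CommaMorphism.left (incl_naturality S (stageMap S g k))).symm

/-- The maps to `G`, as a cocone. -/
noncomputable def toTarget : Cocone (seqLeft S G) where
  pt := G
  ι := NatTrans.ofSequence (fun k => (stage S G k).hom) fun k => by
    rw [seqLeft_map_succ]
    exact (inclLeft_hom S G k).trans (Category.comp_id _).symm


/-- The zero-th stage is zero. -/
lemma isZero_stage_zero : IsZero (stage S G 0).left := HomologicalComplex.isZero_zero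

variable [HasColimitsOfShape ℕ C]

/-- The resolution functor. -/
noncomputable def R : CochainComplex C ℤ ⥤ CochainComplex C ℤ where
  obj G := colimit (seqLeft S G)
  map g := colimMap (seqMap S g)
  map_id G := by
    refine colimit.hom_ext fun k => ?_
    rw [ι_colimMap, Category.comp_id]
    exact (congrArg (fun y => y ≫ colimit.ι (seqLeft S G) k)
      (congrArg CategoryTheory.CommaMorphism.left (stageMap_id S G k))).trans (Category.id_comp _)
  map_comp g g' := by
    refine colimit.hom_ext fun k => ?_
    rw [ι_colimMap, ι_colimMap_assoc, ι_colimMap, ← Category.assoc]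
    exact congrArg (fun y => y ≫ colimit.ι (seqLeft S _) k)
      (congrArg CategoryTheory.CommaMorphism.left (stageMap_comp S g g' k))

/-- The resolution maps. -/
noncomputable def q : R S ⟶ 𝟭 (CochainComplex C ℤ) where
  app G := colimit.desc (seqLeft S G) (toTarget S G)
  naturality G G' g := by
    refine colimit.hom_ext fun k => ?_
    dsimp [R]
    erw [ι_colimMap_assoc, colimit.ι_desc, colimit.ι_desc_assoc]
    exact (Arrow.w (stageMap S g k)).trans (congrArg (fun y => _ ≫ y) (stageMap_right S g k))

section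

omit [HasColimitsOfShape ℕ C]

variable {S} {E : Arrow (CochainComplex C ℤ)}

/-- The generator of a cell. -/
noncomputable def cellIn (x : Idx S E) : S x.2.1 ⟶ (cell x).X x.1 :=
  (HomologicalComplex.singleObjXSelf (.up ℤ) x.1 (S x.2.1)).inv

/-- The element of the coproduct of cells given by a cell. -/
noncomputable def cellGen (x : Idx S E) : S x.2.1 ⟶ (cells S E).X x.1 :=
  cellIn x ≫ (Sigma.ι (fun x : Idx S E => cell x) x).f x.1

lemma cellGen_d (x : Idx S E) (p : ℤ) : cellGen x ≫ (cells S E).d x.1 p = 0 := by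
  rw [cellGen, Category.assoc, HomologicalComplex.Hom.comm]
  have : (cell x).d x.1 p = 0 := HomologicalComplex.single_obj_d _ _ _ _ _
  rw [this, zero_comp, comp_zero]

lemma cellGen_attach (x : Idx S E) : cellGen x ≫ (attach S E).f x.1 = x.2.2.1.1 := by
  rw [cellGen, Category.assoc, ← HomologicalComplex.comp_f, attach, Sigma.ι_desc, cellIn, att]
  erw [HomologicalComplex.mkHomFromSingle_f, Iso.inv_hom_id_assoc]

lemma cellGen_nullHomotopy (x : Idx S E) :
    cellGen x ≫ (nullHomotopy S E).v x.1 (x.1 - 1) (by omega) = x.2.2.1.2 := by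
  have h2 := Cochain.congr_v (ι_nullHomotopy S E x) x.1 (x.1 - 1) (by omega)
  rw [Cochain.zero_cochain_comp_v, Cochain.ofHom_v] at h2
  rw [cellGen, Category.assoc, h2, hom, Cochain.fromSingleMk_v, cellIn]
  erw [Iso.inv_hom_id_assoc]

variable (S)

/-- Starting from zero, one step already surjects on cohomology. -/
lemma epi_homologyMap_step (hS : ∀ {X Y : C} (f g : X ⟶ Y), (∀ i (a : S i ⟶ X), a ≫ f = a ≫ g) → f = g)
    (hE : IsZero E.left) (m n : ℤ) (hn : m - 1 = n) : Epi (HomologicalComplex.homologyMap (step S E).hom n) := by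
  subst hn
  refine Preadditive.epi_of_cancel_zero _ fun {W} g hg => ?_
  rw [← cancel_epi (E.right.homologyπ (m - 1)), comp_zero]
  refine hS _ _ fun i a => ?_
  rw [comp_zero]
  let x : Idx S E := ⟨m, i, ⟨((0 : S i ⟶ E.left.X m), a ≫ E.right.iCycles (m - 1)), zero_comp, by simp⟩⟩
  let y : S i ⟶ (mappingCone (attach S E)).X (m - 1) :=
    cellGen x ≫ (mappingCone.inl (attach S E)).v m (m - 1) (by omega)
  have h0 : (attach S E).f m = 0 :=
    ((HomologicalComplex.eval C (.up ℤ) m).map_isZero hE).eq_of_tgt _ _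
  have hy : y ≫ (mappingCone (attach S E)).d (m - 1) m = 0 := by
    dsimp only [y]
    rw [Category.assoc, mappingCone.inl_v_d (attach S E) m (m - 1) (m + 1) (by omega) (by omega),
      h0, zero_comp, zero_sub, Preadditive.comp_neg, reassoc_of% (cellGen_d x), zero_comp, neg_zero]
  have hyz : y ≫ (mappingCone.desc (attach S E) (nullHomotopy S E) E.hom (δ_nullHomotopy S E)).f (m - 1) =
      a ≫ E.right.iCycles (m - 1) := by
    dsimp only [y]
    rw [Category.assoc, mappingCone.inl_v_desc_f]
    exact cellGen_nullHomotopy x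
  have : (mappingCone (attach S E)).liftCycles y m (by simp) hy ≫
      HomologicalComplex.cyclesMap (mappingCone.desc (attach S E) (nullHomotopy S E) E.hom (δ_nullHomotopy S E)) (m - 1) = a := by
    rw [← cancel_mono (E.right.iCycles (m - 1)), Category.assoc, HomologicalComplex.cyclesMap_i,
      HomologicalComplex.liftCycles_i_assoc, hyz]
  conv_lhs => rw [← this]
  rw [Category.assoc, ← HomologicalComplex.homologyπ_naturality_assoc]
  erw [hg]
  rw [comp_zero, comp_zero]

/-- Classes killed in the target die in the next stage. -/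
lemma comp_homologyMap_inr_eq_zero
    (hS : ∀ {X Y : C} (f g : X ⟶ Y), (∀ i (a : S i ⟶ X), a ≫ f = a ≫ g) → f = g)
    (n : ℤ) {A : C} (x : A ⟶ E.left.homology n)
    (hx : x ≫ HomologicalComplex.homologyMap E.hom n = 0) :
    x ≫ HomologicalComplex.homologyMap (mappingCone.inr (attach S E)) n = 0 := by
  obtain ⟨A', π, hπ, z, hz, hzx⟩ := E.left.eq_liftCycles_homologyπ_up_to_refinements x (n + 1) (by simp)
  have hzG : (z ≫ E.hom.f n) ≫ E.right.d n (n + 1) = 0 := by
    rw [Category.assoc, E.hom.comm, reassoc_of% hz, zero_comp]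
  have h0 : E.right.liftCycles (z ≫ E.hom.f n) (n + 1) (by simp) hzG ≫ E.right.homologyπ n = 0 := by
    have := congrArg (fun t => t ≫ HomologicalComplex.homologyMap E.hom n) hzx
    simp only [Category.assoc, hx, comp_zero, HomologicalComplex.homologyπ_naturality,
      HomologicalComplex.liftCycles_comp_cyclesMap_assoc] at this
    exact this.symm
  obtain ⟨A'', π', hπ', h, hh⟩ :=
    (E.right.liftCycles_comp_homologyπ_eq_zero_iff_up_to_refinements (n - 1) n (n + 1) (by simp) (by simp) _ hzG).1 h0
  rw [← cancel_epi π, ← cancel_epi π', comp_zero, comp_zero]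
  refine hS _ _ fun i a => ?_
  rw [comp_zero]
  let c : Idx S E := ⟨n, i, ⟨((a ≫ π' ≫ z : S i ⟶ E.left.X n), (a ≫ h : S i ⟶ E.right.X (n - 1))),
    by simp [hz], by
      have := congrArg (fun t => a ≫ t) hh
      simpa using this.symm⟩⟩
  have hd : (a ≫ π' ≫ z) ≫ (mappingCone.inr (attach S E)).f n =
      (cellGen c ≫ (mappingCone.inl (attach S E)).v n (n - 1) (by omega)) ≫ (mappingCone (attach S E)).d (n - 1) n := by
    rw [Category.assoc (cellGen c), mappingCone.inl_v_d (attach S E) n (n - 1) (n + 1) (by omega) (by omega),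
      Preadditive.comp_sub, reassoc_of% (cellGen_d c), ← Category.assoc (cellGen c), cellGen_attach c,
      zero_comp, sub_zero]
  have hcyc : ((a ≫ π' ≫ z) ≫ (mappingCone.inr (attach S E)).f n) ≫ (mappingCone (attach S E)).d n (n + 1) = 0 := by
    simp [reassoc_of% hz]
  have key : (mappingCone (attach S E)).liftCycles ((a ≫ π' ≫ z) ≫ (mappingCone.inr (attach S E)).f n) (n + 1) (by simp) hcyc ≫
      (mappingCone (attach S E)).homologyπ n = 0 :=
    (HomologicalComplex.liftCycles_comp_homologyπ_eq_zero_iff_up_to_refinements _ (n - 1) n (n + 1)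
      (by simp) (by simp) _ hcyc).2 ⟨_, 𝟙 _, inferInstance, _, (Category.id_comp _).trans hd⟩
  refine Eq.trans ?_ key
  rw [reassoc_of% hzx, HomologicalComplex.homologyπ_naturality,
    HomologicalComplex.liftCycles_comp_cyclesMap_assoc, ← Category.assoc π', ← Category.assoc a,
    HomologicalComplex.comp_liftCycles, HomologicalComplex.comp_liftCycles]
  simp

end

variable [HasExactColimitsOfShape ℕ C]

/-- The resolution map is a quasi-isomorphism. -/
lemma quasiIso_q (hS : ∀ {X Y : C} (f g : X ⟶ Y), (∀ i (a : S i ⟶ X), a ≫ f = a ≫ g) → f = g) :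
    QuasiIso ((q S).app G) := by
  have := IsFiltered.isConnected ℕ
  rw [quasiIso_iff]
  intro n
  rw [quasiIsoAt_iff_isIso_homologyMap]
  have hι : ∀ k, colimit.ι (seqLeft S G) k ≫ (q S).app G = (stage S G k).hom :=
    fun k => colimit.ι_desc (toTarget S G) k
  have hepi : Epi (HomologicalComplex.homologyMap ((q S).app G) n) := by
    have : Epi (HomologicalComplex.homologyMap (stage S G 1).hom n) :=
      epi_homologyMap_step S (E := stage S G 0) hS (isZero_stage_zero S G) (n + 1) n (by omega)
    rw [← hι 1] at this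
    erw [HomologicalComplex.homologyMap_comp] at this
    exact @epi_of_epi _ _ _ _ _ (HomologicalComplex.homologyMap (colimit.ι (seqLeft S G) 1) n) (HomologicalComplex.homologyMap ((q S).app G) n) this
  have hmono : Mono (HomologicalComplex.homologyMap ((q S).app G) n) :=
    mono_homologyMap_of_isColimit (seqLeft S G) _ (colimit.isColimit _) _ n fun k =>
      ⟨k + 1, homOfLE (Nat.le_add_right k 1), fun A x hx => by
        rw [seqLeft_map_succ]
        refine comp_homologyMap_inr_eq_zero S (E := stage S G k) hS n x ?_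
        rw [← hι k]
        exact hx⟩
  exact isIso_of_mono_of_epi _

omit [HasExactColimitsOfShape ℕ C] in
/-- Induction principle for the complexes `R S G`. -/
lemma prop_R (P : CochainComplex C ℤ → Prop) (h0 : ∀ Z : CochainComplex C ℤ, IsZero Z → P Z)
    (hcone : ∀ {ι : Type v} (deg : ι → ℤ) (idx : ι → κ) {L : CochainComplex C ℤ}
      (φ : (∐ fun x => (singleFunctor C (deg x)).obj (S (idx x))) ⟶ L), P L → P (mappingCone φ))
    (hcolim : ∀ F : ℕ ⥤ CochainComplex C ℤ, (∀ k, P (F.obj k)) → P (colimit F)) :
    P ((R S).obj G) := by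
  refine hcolim _ fun k => ?_
  change P (stage S G k).left
  induction k with
  | zero => exact h0 _ (isZero_stage_zero S G)
  | succ k ih => exact hcone (ι := Idx S (stage S G k)) (fun x => x.1) (fun x => x.2.1) (attach S (stage S G k)) ih

end Res

end Groth.Agent.KFlat
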